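/-
Rank one groups: basic calculus of conjugates and of rank one pairs (helper731, section 63).
-/
import Cfsg.Prelude.Def_RootSubgroups
set_option linter.all false

set_option autoImplicit false
open Cfsg

namespace Cfsg.Agent.H731

variable {G : Type*} [Group G]

/-! ### Conjugates of subgroups -/

theorem mem_conjBy {A : Subgroup G} {g x : G} : x ∈ conjBy A g ↔ g⁻¹ * x * g ∈ A := by
  constructor
  · rintro ⟨a, ha, rfl⟩
    simpa [mul_assoc] using ha
  · intro h
    exact ⟨g⁻¹ * x * g, h, by simp [mul_assoc]⟩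

theorem mem_conjBy_inv {A : Subgroup G} {g x : G} : x ∈ conjBy A g⁻¹ ↔ g * x * g⁻¹ ∈ A := by
  rw [mem_conjBy, inv_inv]

theorem conj_mem_conjBy {A : Subgroup G} {a : G} (ha : a ∈ A) (g : G) : g * a * g⁻¹ ∈ conjBy A g :=
  ⟨a, ha, by simp⟩

theorem conjBy_one (A : Subgroup G) : conjBy A 1 = A := by
  ext x
  rw [mem_conjBy, inv_one, one_mul, mul_one]

theorem conjBy_conjBy (A : Subgroup G) (g h : G) : conjBy (conjBy A h) g = conjBy A (g * h) := by
  ext x; simp only [mem_conjBy, mul_inv_rev, mul_assoc]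

theorem conjBy_inj {A B : Subgroup G} {g : G} : conjBy A g = conjBy B g ↔ A = B := by
  constructor
  · intro h
    have := congrArg (fun C => conjBy C g⁻¹) h
    simpa only [conjBy_conjBy, inv_mul_cancel, conjBy_one] using this
  · rintro rfl; rfl

theorem conjBy_eq_iff {A B : Subgroup G} {g : G} : conjBy A g = B ↔ A = conjBy B g⁻¹ := by
  constructor
  · rintro rfl; rw [conjBy_conjBy, inv_mul_cancel, conjBy_one]
  · rintro rfl; rw [conjBy_conjBy, mul_inv_cancel, conjBy_one]

theorem conjBy_inv_eq_iff {A B : Subgroup G} {g : G} : conjBy A g⁻¹ = B ↔ A = conjBy B g := by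
  rw [conjBy_eq_iff, inv_inv]

theorem conjBy_le_conjBy {A B : Subgroup G} {g : G} : conjBy A g ≤ conjBy B g ↔ A ≤ B := by
  constructor
  · intro h a ha
    have := h (conj_mem_conjBy ha g)
    rw [mem_conjBy] at this
    simpa [mul_assoc] using this
  · intro h
    exact Subgroup.map_mono h

theorem conjBy_of_mem {A : Subgroup G} {a : G} (ha : a ∈ A) : conjBy A a = A := by
  ext x
  rw [mem_conjBy]
  constructor
  · intro h
    have := A.mul_mem (A.mul_mem ha h) (A.inv_mem ha)
    simpa [mul_assoc] using this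
  · intro h
    exact A.mul_mem (A.mul_mem (A.inv_mem ha) h) ha

theorem mem_normalizer_iff_conjBy {A : Subgroup G} {g : G} :
    g ∈ Subgroup.normalizer (A : Set G) ↔ conjBy A g = A := by
  rw [Subgroup.mem_normalizer_iff]
  constructor
  · intro h
    ext x
    rw [mem_conjBy]
    constructor
    · intro hx
      have := (h (g⁻¹ * x * g)).1 hx
      simpa [mul_assoc] using this
    · intro hx
      refine (h (g⁻¹ * x * g)).2 ?_
      simpa [mul_assoc] using hx
  · intro h x
    constructor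
    · intro hx
      have : g * x * g⁻¹ ∈ conjBy A g := conj_mem_conjBy hx g
      rwa [h] at this
    · intro hx
      have hx' : g * x * g⁻¹ ∈ A := hx
      rw [← h, mem_conjBy] at hx'
      simpa [mul_assoc] using hx'

theorem conjBy_sup (A B : Subgroup G) (g : G) : conjBy (A ⊔ B) g = conjBy A g ⊔ conjBy B g :=
  Subgroup.map_sup _ _ _

theorem conjBy_inf (A B : Subgroup G) (g : G) : conjBy (A ⊓ B) g = conjBy A g ⊓ conjBy B g := by
  ext x; simp only [mem_conjBy, Subgroup.mem_inf]

theorem conjBy_bot (g : G) : conjBy (⊥ : Subgroup G) g = ⊥ := Subgroup.map_bot _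

theorem conjBy_top (g : G) : conjBy (⊤ : Subgroup G) g = ⊤ := by
  ext x
  rw [mem_conjBy]
  exact ⟨fun _ => Subgroup.mem_top _, fun _ => Subgroup.mem_top _⟩

theorem conjBy_eq_bot {A : Subgroup G} {g : G} : conjBy A g = ⊥ ↔ A = ⊥ := by
  constructor
  · intro h
    exact (conjBy_inj (g := g)).1 (h.trans (conjBy_bot g).symm)
  · rintro rfl
    exact conjBy_bot g

theorem conjBy_iSup {ι : Sort*} (A : ι → Subgroup G) (g : G) : conjBy (⨆ i, A i) g = ⨆ i, conjBy (A i) g :=
  Subgroup.map_iSup _ _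

theorem conjBy_commutator (A B : Subgroup G) (g : G) : conjBy ⁅A, B⁆ g = ⁅conjBy A g, conjBy B g⁆ :=
  Subgroup.map_commutator _ _ _

theorem conjBy_closure (s : Set G) (g : G) :
    conjBy (Subgroup.closure s) g = Subgroup.closure ((fun x => g * x * g⁻¹) '' s) := by
  unfold conjBy
  rw [MonoidHom.map_closure]
  rfl

theorem conjBy_zpowers (x g : G) : conjBy (Subgroup.zpowers x) g = Subgroup.zpowers (g * x * g⁻¹) := by
  unfold conjBy
  rw [MonoidHom.map_zpowers]
  rfl

theorem map_conjBy {H : Type*} [Group H] (f : G →* H) (A : Subgroup G) (g : G) :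
    (conjBy A g).map f = conjBy (A.map f) (f g) := by
  ext x
  constructor
  · rintro ⟨_, ⟨a, ha, rfl⟩, rfl⟩
    exact ⟨f a, ⟨a, ha, rfl⟩, by simp⟩
  · rintro ⟨_, ⟨a, ha, rfl⟩, rfl⟩
    exact ⟨g * a * g⁻¹, ⟨a, ha, by simp⟩, by simp⟩

theorem conjBy_normalizer (A : Subgroup G) (g : G) :
    conjBy (Subgroup.normalizer (A : Set G)) g = Subgroup.normalizer ((conjBy A g : Subgroup G) : Set G) := by
  ext x
  rw [mem_conjBy, mem_normalizer_iff_conjBy, mem_normalizer_iff_conjBy, conjBy_conjBy]
  rw [← conjBy_inj (g := g), conjBy_conjBy]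
  simp only [mul_assoc, mul_inv_cancel_left]

/-- `conjBy` of a subgroup by an element commuting elementwise with it. -/
theorem conjBy_of_commute {A : Subgroup G} {g : G} (h : ∀ a ∈ A, g * a = a * g) : conjBy A g = A := by
  ext x
  rw [mem_conjBy]
  constructor
  · intro hx
    have h1 := h _ hx
    have : x = g⁻¹ * x * g := by
      have : g * (g⁻¹ * x * g) = (g⁻¹ * x * g) * g := h1
      have h2 : x * g = g⁻¹ * x * g * g := by simpa [mul_assoc] using this
      exact mul_right_cancel h2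
    rwa [this]
  · intro hx
    have h1 := h _ hx
    have : g⁻¹ * x * g = x := by
      rw [mul_assoc, ← h1, inv_mul_cancel_left]
    rwa [this]

theorem le_normalizer_of_conjBy {A K : Subgroup G} (h : ∀ k ∈ K, conjBy A k = A) :
    K ≤ Subgroup.normalizer (A : Set G) := fun k hk => mem_normalizer_iff_conjBy.2 (h k hk)

/-- If `A` and `B` normalize `N`, so does `A ⊔ B`. -/
theorem conjBy_eq_of_mem_sup {A B N : Subgroup G} (hA : ∀ a ∈ A, conjBy N a = N) (hB : ∀ b ∈ B, conjBy N b = N)
    {x : G} (hx : x ∈ A ⊔ B) : conjBy N x = N := by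
  have h1 : A ⊔ B ≤ Subgroup.normalizer (N : Set G) :=
    sup_le (le_normalizer_of_conjBy hA) (le_normalizer_of_conjBy hB)
  exact mem_normalizer_iff_conjBy.1 (h1 hx)

theorem commutator_eq_bot_iff_forall {A B : Subgroup G} : ⁅A, B⁆ = ⊥ ↔ ∀ a ∈ A, ∀ b ∈ B, a * b = b * a := by
  rw [Subgroup.commutator_eq_bot_iff_le_centralizer]
  constructor
  · intro h a ha b hb
    exact (Subgroup.mem_centralizer_iff.1 (h ha) b hb).symm
  · intro h a ha
    rw [Subgroup.mem_centralizer_iff]
    intro b hb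
    exact (h a ha b hb).symm

theorem mem_centralizer_sup {A B : Subgroup G} {z : G} :
    z ∈ Subgroup.centralizer ((A ⊔ B : Subgroup G) : Set G) ↔
      (∀ a ∈ A, z * a = a * z) ∧ (∀ b ∈ B, z * b = b * z) := by
  rw [Subgroup.mem_centralizer_iff]
  constructor
  · intro h
    exact ⟨fun a ha => (h a (Subgroup.mem_sup_left ha)).symm, fun b hb => (h b (Subgroup.mem_sup_right hb)).symm⟩
  · rintro ⟨hA, hB⟩ x hx
    have h1 : A ⊔ B ≤ Subgroup.centralizer ({z} : Set G) := by
      refine sup_le ?_ ?_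
      · intro a ha
        rw [Subgroup.mem_centralizer_iff]
        rintro _ rfl
        exact hA a ha
      · intro b hb
        rw [Subgroup.mem_centralizer_iff]
        rintro _ rfl
        exact hB b hb
    have := Subgroup.mem_centralizer_iff.1 (h1 hx) z rfl
    exact this.symm

/-! ### Rank one pairs: first facts -/

section pair

variable {A B : Subgroup G}

theorem RankOneCondition_conj (h : RankOneCondition A B) (g : G) :
    RankOneCondition (conjBy A g) (conjBy B g) := by
  rintro a ha ha1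
  rw [mem_conjBy] at ha
  obtain ⟨b, hb, hb1, hab⟩ := h (g⁻¹ * a * g) ha (by
    intro h1
    apply ha1
    have : a = g * (g⁻¹ * a * g) * g⁻¹ := by simp [mul_assoc]
    rw [this, h1]; simp)
  refine ⟨g * b * g⁻¹, conj_mem_conjBy hb g, ?_, ?_⟩
  · intro h1
    apply hb1
    have : b = g⁻¹ * (g * b * g⁻¹) * g := by simp [mul_assoc]
    rw [this, h1]; simp
  · have h2 := congrArg (fun C => conjBy C g) hab
    simp only [conjBy_conjBy] at h2 ⊢
    simpa [mul_assoc] using h2

theorem IsRankOnePair_conj (h : IsRankOnePair A B) (g : G) : IsRankOnePair (conjBy A g) (conjBy B g) where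
  ne := fun h1 => h.ne (conjBy_inj.1 h1)
  nilpotent_left := by
    have := h.nilpotent_left
    exact Group.nilpotent_of_surjective (A.equivMapOfInjective (MulAut.conj g).toMonoidHom
      (MulAut.conj g).injective).toMonoidHom (MulEquiv.surjective _)
  nilpotent_right := by
    have := h.nilpotent_right
    exact Group.nilpotent_of_surjective (B.equivMapOfInjective (MulAut.conj g).toMonoidHom
      (MulAut.conj g).injective).toMonoidHom (MulEquiv.surjective _)
  cond_left := RankOneCondition_conj h.cond_left g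
  cond_right := RankOneCondition_conj h.cond_right g

theorem rankOne_left_ne_bot (h : IsRankOnePair A B) : A ≠ ⊥ := by
  intro hA
  have hB : B = ⊥ := by
    rw [Subgroup.eq_bot_iff_forall]
    intro b hb
    by_contra hb1
    obtain ⟨a, ha, ha1, -⟩ := h.cond_right b hb hb1
    rw [hA] at ha
    exact ha1 (Subgroup.mem_bot.1 ha)
  exact h.ne (hA.trans hB.symm)

theorem rankOne_right_ne_bot (h : IsRankOnePair A B) : B ≠ ⊥ := rankOne_left_ne_bot (RankOnePair_symm h)

theorem rankOne_exists_left (h : IsRankOnePair A B) : ∃ a ∈ A, a ≠ 1 := by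
  obtain ⟨a, ha1⟩ := (Subgroup.ne_bot_iff_exists_ne_one).1 (rankOne_left_ne_bot h)
  exact ⟨a, a.2, fun h1 => ha1 (Subtype.ext h1)⟩

theorem rankOne_exists_right (h : IsRankOnePair A B) : ∃ b ∈ B, b ≠ 1 := rankOne_exists_left (RankOnePair_symm h)

/-- `N_A(B) = 1`, elementwise. -/
theorem rankOne_eq_one (h : IsRankOnePair A B) {a : G} (ha : a ∈ A) (haB : conjBy B a = B) : a = 1 := by
  by_contra ha1
  obtain ⟨b, hb, hb1, hab⟩ := h.cond_left a ha ha1
  have h1 : conjBy B a⁻¹ = B := by rw [conjBy_inv_eq_iff, haB]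
  rw [h1, conjBy_inv_eq_iff, conjBy_of_mem hb] at hab
  exact h.ne hab

theorem rankOne_eq_one' (h : IsRankOnePair A B) {b : G} (hb : b ∈ B) (hbA : conjBy A b = A) : b = 1 :=
  rankOne_eq_one (RankOnePair_symm h) hb hbA

theorem rankOne_inf_normalizer (h : IsRankOnePair A B) : A ⊓ Subgroup.normalizer (B : Set G) = ⊥ := by
  rw [Subgroup.eq_bot_iff_forall]
  rintro a ⟨ha, haB⟩
  exact rankOne_eq_one h ha (mem_normalizer_iff_conjBy.1 haB)

theorem rankOne_inf_normalizer' (h : IsRankOnePair A B) : B ⊓ Subgroup.normalizer (A : Set G) = ⊥ :=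
  rankOne_inf_normalizer (RankOnePair_symm h)

theorem rankOne_inf (h : IsRankOnePair A B) : A ⊓ B = ⊥ := by
  rw [Subgroup.eq_bot_iff_forall]
  rintro a ⟨ha, haB⟩
  exact rankOne_eq_one h ha (conjBy_of_mem haB)

/-- Injectivity of `a ↦ B^a` on `A`. -/
theorem rankOne_conj_inj (h : IsRankOnePair A B) {a a' : G} (ha : a ∈ A) (ha' : a' ∈ A)
    (haa : conjBy B a = conjBy B a') : a = a' := by
  have h1 : conjBy B (a'⁻¹ * a) = B := by
    rw [← conjBy_conjBy, haa, conjBy_conjBy, inv_mul_cancel, conjBy_one]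
  have h2 := rankOne_eq_one h (A.mul_mem (A.inv_mem ha') ha) h1
  exact (inv_mul_eq_one.1 h2).symm

theorem rankOne_partner_unique (h : IsRankOnePair A B) {a : G} (ha : a ∈ A) (ha1 : a ≠ 1) :
    ∃! b : G, b ∈ B ∧ b ≠ 1 ∧ conjBy A b⁻¹ = conjBy B a⁻¹ := by
  obtain ⟨b, hb, hb1, hab⟩ := h.cond_left a ha ha1
  refine ⟨b, ⟨hb, hb1, hab⟩, ?_⟩
  rintro b' ⟨hb', -, hab'⟩
  have := rankOne_conj_inj (RankOnePair_symm h) (B.inv_mem hb') (B.inv_mem hb) (hab'.trans hab.symm)
  exact inv_inj.1 this

theorem rankOne_partner_unique' (h : IsRankOnePair A B) {b : G} (hb : b ∈ B) (hb1 : b ≠ 1) :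
    ∃! a : G, a ∈ A ∧ a ≠ 1 ∧ conjBy A b⁻¹ = conjBy B a⁻¹ := by
  obtain ⟨a, ⟨ha, ha1, hab⟩, hu⟩ := rankOne_partner_unique (RankOnePair_symm h) hb hb1
  exact ⟨a, ⟨ha, ha1, hab.symm⟩, fun a' ⟨ha', ha1', hab'⟩ => hu a' ⟨ha', ha1', hab'.symm⟩⟩

theorem rankOne_existsUnique_right (h : IsRankOnePair A B) {a b b' : G} (hb : b ∈ B) (hb' : b' ∈ B)
    (hab : conjBy A b⁻¹ = conjBy B a⁻¹) (hab' : conjBy A b'⁻¹ = conjBy B a⁻¹) : b = b' :=
  inv_inj.1 (rankOne_conj_inj (RankOnePair_symm h) (B.inv_mem hb) (B.inv_mem hb') (hab.trans hab'.symm))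

theorem rankOne_existsUnique_left (h : IsRankOnePair A B) {a a' b : G} (ha : a ∈ A) (ha' : a' ∈ A)
    (hab : conjBy A b⁻¹ = conjBy B a⁻¹) (hab' : conjBy A b⁻¹ = conjBy B a'⁻¹) : a = a' :=
  inv_inj.1 (rankOne_conj_inj h (A.inv_mem ha) (A.inv_mem ha') (hab.symm.trans hab'))

/-! ### The set of unipotent subgroups -/

theorem left_mem_unipotentSubgroups (A B : Subgroup G) : A ∈ unipotentSubgroups A B :=
  ⟨1, Subgroup.one_mem _, (conjBy_one A).symm⟩

theorem conjBy_mem_unipotentSubgroups {C : Subgroup G} (hC : C ∈ unipotentSubgroups A B) {x : G}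
    (hx : x ∈ A ⊔ B) : conjBy C x ∈ unipotentSubgroups A B := by
  obtain ⟨y, hy, rfl⟩ := hC
  exact ⟨x * y, Subgroup.mul_mem _ hx hy, by rw [conjBy_conjBy]⟩

theorem right_mem_unipotentSubgroups (h : IsRankOnePair A B) : B ∈ unipotentSubgroups A B := by
  obtain ⟨a, ha, ha1⟩ := rankOne_exists_left h
  obtain ⟨b, hb, hb1, hab⟩ := h.cond_left a ha ha1
  refine ⟨a * b⁻¹, Subgroup.mul_mem _ (Subgroup.mem_sup_left ha)
    (Subgroup.mem_sup_right (B.inv_mem hb)), ?_⟩
  rw [← conjBy_conjBy, hab, conjBy_conjBy, mul_inv_cancel, conjBy_one]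

/-- the set `{A} ∪ B^A` is stable under `B`. -/
theorem rankOne_aux (h : IsRankOnePair A B) {C : Subgroup G} (hC : C = A ∨ ∃ a ∈ A, C = conjBy B a)
    {b : G} (hb : b ∈ B) : conjBy C b = A ∨ ∃ a ∈ A, conjBy C b = conjBy B a := by
  have key : ∀ b ∈ B, conjBy A b = A ∨ ∃ a ∈ A, conjBy A b = conjBy B a := by
    intro b hb
    by_cases hb1 : b = 1
    · left; rw [hb1, conjBy_one]
    · right
      obtain ⟨a, ha, ha1, hab⟩ := h.cond_right b⁻¹ (B.inv_mem hb) (by simpa using hb1)
      refine ⟨a⁻¹, A.inv_mem ha, ?_⟩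
      rw [inv_inv] at hab
      exact hab.symm
  rcases hC with rfl | ⟨a, ha, rfl⟩
  · exact key b hb
  · by_cases ha1 : a = 1
    · subst ha1
      right
      exact ⟨1, ha, by rw [conjBy_one, conjBy_of_mem hb]⟩
    · obtain ⟨b', hb', hb1', hab'⟩ := h.cond_left a⁻¹ (A.inv_mem ha) (by simpa using ha1)
      rw [inv_inv] at hab'
      rw [← hab', conjBy_conjBy]
      exact key _ (B.mul_mem hb (B.inv_mem hb'))

theorem rankOne_mem_unipotent_iff (h : IsRankOnePair A B) {C : Subgroup G} :
    C ∈ unipotentSubgroups A B ↔ C = A ∨ ∃ a ∈ A, C = conjBy B a := by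
  constructor
  · rintro ⟨x, hx, rfl⟩
    -- stabilizer of the property
    have : ∀ C : Subgroup G, (C = A ∨ ∃ a ∈ A, C = conjBy B a) →
        (conjBy C x = A ∨ ∃ a ∈ A, conjBy C x = conjBy B a) := by
      rw [← Subgroup.closure_eq (A ⊔ B)] at hx
      have hx' : x ∈ Subgroup.closure ((A : Set G) ∪ (B : Set G)) := by
        rw [Subgroup.closure_union, Subgroup.closure_eq, Subgroup.closure_eq]
        rwa [Subgroup.closure_eq] at hx
      induction hx' using Subgroup.closure_induction_left with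
      | one => intro C hC; rwa [conjBy_one]
      | mul_left y hy z hz ih =>
        intro C hC
        rw [← conjBy_conjBy]
        have hz' := ih (by
          rw [Subgroup.closure_eq]
          rwa [Subgroup.closure_union, Subgroup.closure_eq, Subgroup.closure_eq] at hz) C hC
        rcases hy with hy | hy
        · rcases hz' with hz' | ⟨a, ha, hz'⟩
          · left; rw [hz', conjBy_of_mem hy]
          · right; exact ⟨y * a, A.mul_mem hy ha, by rw [hz', conjBy_conjBy]⟩
        · exact rankOne_aux h hz' hy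
      | inv_mul_cancel y hy z hz ih =>
        intro C hC
        rw [← conjBy_conjBy]
        have hz' := ih (by
          rw [Subgroup.closure_eq]
          rwa [Subgroup.closure_union, Subgroup.closure_eq, Subgroup.closure_eq] at hz) C hC
        rcases hy with hy | hy
        · rcases hz' with hz' | ⟨a, ha, hz'⟩
          · left; rw [hz', conjBy_of_mem (A.inv_mem hy)]
          · right; exact ⟨y⁻¹ * a, A.mul_mem (A.inv_mem hy) ha, by rw [hz', conjBy_conjBy]⟩
        · exact rankOne_aux h hz' (B.inv_mem hy)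
    exact this A (Or.inl rfl)
  · rintro (rfl | ⟨a, ha, rfl⟩)
    · exact left_mem_unipotentSubgroups _ _
    · exact conjBy_mem_unipotentSubgroups (right_mem_unipotentSubgroups h) (Subgroup.mem_sup_left ha)

theorem unipotentSubgroups_symm (h : IsRankOnePair A B) : unipotentSubgroups A B = unipotentSubgroups B A := by
  ext C
  constructor
  · rintro ⟨x, hx, rfl⟩
    exact conjBy_mem_unipotentSubgroups (right_mem_unipotentSubgroups (RankOnePair_symm h)) (by rwa [sup_comm])
  · rintro ⟨x, hx, rfl⟩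
    exact conjBy_mem_unipotentSubgroups (right_mem_unipotentSubgroups h) (by rwa [sup_comm])

theorem rankOne_mem_unipotent_iff' (h : IsRankOnePair A B) {C : Subgroup G} :
    C ∈ unipotentSubgroups A B ↔ C = B ∨ ∃ b ∈ B, C = conjBy A b := by
  rw [unipotentSubgroups_symm h]
  exact rankOne_mem_unipotent_iff (RankOnePair_symm h)

/-- 2-transitivity: any two different unipotent subgroups are the image of `(A, B)`. -/
theorem rankOne_exists_conj_pair (h : IsRankOnePair A B) {C D : Subgroup G} (hC : C ∈ unipotentSubgroups A B)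
    (hD : D ∈ unipotentSubgroups A B) (hne : C ≠ D) : ∃ x ∈ A ⊔ B, conjBy A x = C ∧ conjBy B x = D := by
  obtain ⟨y, hy, rfl⟩ := hC
  have hD' : conjBy D y⁻¹ ∈ unipotentSubgroups A B := conjBy_mem_unipotentSubgroups hD (Subgroup.inv_mem _ hy)
  rcases (rankOne_mem_unipotent_iff h).1 hD' with h1 | ⟨a, ha, h1⟩
  · exfalso; apply hne
    rw [conjBy_inv_eq_iff] at h1
    exact h1.symm
  · refine ⟨y * a, Subgroup.mul_mem _ hy (Subgroup.mem_sup_left ha), ?_, ?_⟩
    · rw [← conjBy_conjBy, conjBy_of_mem ha]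
    · rw [← conjBy_conjBy, ← h1, conjBy_conjBy, mul_inv_cancel, conjBy_one]

theorem rankOne_two_transitive (h : IsRankOnePair A B) {C₁ C₂ D₁ D₂ : Subgroup G}
    (hC₁ : C₁ ∈ unipotentSubgroups A B) (hC₂ : C₂ ∈ unipotentSubgroups A B)
    (hD₁ : D₁ ∈ unipotentSubgroups A B) (hD₂ : D₂ ∈ unipotentSubgroups A B) (hC : C₁ ≠ C₂) (hD : D₁ ≠ D₂) :
    ∃ x ∈ A ⊔ B, conjBy C₁ x = D₁ ∧ conjBy C₂ x = D₂ := by
  obtain ⟨x, hx, hx1, hx2⟩ := rankOne_exists_conj_pair h hC₁ hC₂ hC
  obtain ⟨y, hy, hy1, hy2⟩ := rankOne_exists_conj_pair h hD₁ hD₂ hD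
  refine ⟨y * x⁻¹, Subgroup.mul_mem _ hy (Subgroup.inv_mem _ hx), ?_, ?_⟩
  · rw [← hx1, conjBy_conjBy, inv_mul_cancel_right, hy1]
  · rw [← hx2, conjBy_conjBy, inv_mul_cancel_right, hy2]

/-- Two different unipotent subgroups form a rank one pair. -/
theorem rankOne_pair_of_mem (h : IsRankOnePair A B) {C D : Subgroup G} (hC : C ∈ unipotentSubgroups A B)
    (hD : D ∈ unipotentSubgroups A B) (hne : C ≠ D) : IsRankOnePair C D := by
  obtain ⟨x, hx, rfl, rfl⟩ := rankOne_exists_conj_pair h hC hD hne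
  exact IsRankOnePair_conj h x

/-- Two different unipotent subgroups generate the rank one group. -/
theorem rankOne_sup_of_mem (h : IsRankOnePair A B) {C D : Subgroup G} (hC : C ∈ unipotentSubgroups A B)
    (hD : D ∈ unipotentSubgroups A B) (hne : C ≠ D) : C ⊔ D = A ⊔ B := by
  obtain ⟨x, hx, rfl, rfl⟩ := rankOne_exists_conj_pair h hC hD hne
  rw [← conjBy_sup, conjBy_of_mem hx]

theorem rankOne_inf_of_mem (h : IsRankOnePair A B) {C D : Subgroup G} (hC : C ∈ unipotentSubgroups A B)
    (hD : D ∈ unipotentSubgroups A B) (hne : C ≠ D) : C ⊓ D = ⊥ :=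
  rankOne_inf (rankOne_pair_of_mem h hC hD hne)

theorem rankOne_le_of_mem (h : IsRankOnePair A B) {C : Subgroup G} (hC : C ∈ unipotentSubgroups A B) :
    C ≤ A ⊔ B := by
  obtain ⟨x, hx, rfl⟩ := hC
  calc conjBy A x ≤ conjBy (A ⊔ B) x := conjBy_le_conjBy.2 le_sup_left
    _ = A ⊔ B := conjBy_of_mem hx

/-- The unipotent subgroups with respect to another pair of unipotent subgroups are the same. -/
theorem rankOne_unipotentSubgroups_eq (h : IsRankOnePair A B) {C D : Subgroup G}
    (hC : C ∈ unipotentSubgroups A B) (hD : D ∈ unipotentSubgroups A B) (hne : C ≠ D) :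
    unipotentSubgroups C D = unipotentSubgroups A B := by
  obtain ⟨y, hy, hyA⟩ := hC
  have hC : C ∈ unipotentSubgroups A B := ⟨y, hy, hyA⟩
  have hs := rankOne_sup_of_mem h hC hD hne
  ext E
  constructor
  · rintro ⟨x, hx, rfl⟩
    exact conjBy_mem_unipotentSubgroups hC (by rwa [← hs])
  · rintro ⟨x, hx, rfl⟩
    refine ⟨x * y⁻¹, by rw [hs]; exact Subgroup.mul_mem _ hx (Subgroup.inv_mem _ hy), ?_⟩
    rw [hyA, conjBy_conjBy, inv_mul_cancel_right]

theorem rankOne_three (h : IsRankOnePair A B) : ∃ C ∈ unipotentSubgroups A B, C ≠ A ∧ C ≠ B := by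
  obtain ⟨a, ha, ha1⟩ := rankOne_exists_left h
  refine ⟨conjBy B a, (rankOne_mem_unipotent_iff h).2 (Or.inr ⟨a, ha, rfl⟩), ?_, ?_⟩
  · intro h1
    rw [conjBy_eq_iff, conjBy_of_mem (A.inv_mem ha)] at h1
    exact h.ne h1.symm
  · intro h1
    exact ha1 (rankOne_eq_one h ha h1)

/-- An element of `A` fixing some other unipotent subgroup is trivial. -/
theorem rankOne_eq_one_of_fix (h : IsRankOnePair A B) {C D : Subgroup G} (hC : C ∈ unipotentSubgroups A B)
    (hD : D ∈ unipotentSubgroups A B) (hne : C ≠ D) {c : G} (hc : c ∈ C) (hcD : conjBy D c = D) : c = 1 :=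
  rankOne_eq_one (rankOne_pair_of_mem h hC hD hne) hc hcD

/-- The centralizer of a rank one group meets each unipotent subgroup trivially. -/
theorem rankOne_centralizer_inf (h : IsRankOnePair A B) {C : Subgroup G} (hC : C ∈ unipotentSubgroups A B) {c : G}
    (hc : c ∈ C) (hz : c ∈ Subgroup.centralizer ((A ⊔ B : Subgroup G) : Set G)) : c = 1 := by
  obtain ⟨hz1, hz2⟩ := mem_centralizer_sup.1 hz
  have hB := right_mem_unipotentSubgroups h
  by_cases hCA : C = A
  · subst hCA
    exact rankOne_eq_one_of_fix h hC hB h.ne hc (conjBy_of_commute hz2)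
  · exact rankOne_eq_one_of_fix h hC (left_mem_unipotentSubgroups A B) hCA hc (conjBy_of_commute hz1)

/-! ### Normal subgroups of a rank one group -/

/-- Let `N ≤ ⟨A, B⟩` be normalized by `A` and `B`.  Then `N A = ⟨A, B⟩` or `N` centralizes `⟨A, B⟩`. -/
theorem rankOne_dichotomy (h : IsRankOnePair A B) {N : Subgroup G} (hN : N ≤ A ⊔ B)
    (hNn : ∀ x ∈ A ⊔ B, conjBy N x = N) :
    N ⊔ A = A ⊔ B ∨ N ≤ Subgroup.centralizer ((A ⊔ B : Subgroup G) : Set G) := by
  have hA := left_mem_unipotentSubgroups A B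
  have hB := right_mem_unipotentSubgroups h
  by_cases hfix : ∀ n ∈ N, conjBy A n = A
  · right
    -- N fixes every unipotent subgroup
    have hfix' : ∀ n ∈ N, conjBy B n = B := by
      intro n hn
      obtain ⟨x, hx, hxB⟩ := hB
      have h1 : x⁻¹ * n * x ∈ N := by
        have := hNn x hx
        rw [← this, mem_conjBy] at hn
        exact hn
      have h2 := hfix _ h1
      rw [hxB, conjBy_conjBy]
      rw [← conjBy_inj (g := x), conjBy_conjBy] at h2
      simpa [mul_assoc] using h2
    have hcomm : ∀ (C D : Subgroup G), IsRankOnePair C D → (∀ n ∈ N, conjBy C n = C) → (∀ n ∈ N, conjBy D n = D) →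
        (∀ c ∈ C, conjBy N c = N) → ∀ n ∈ N, ∀ c ∈ C, n * c = c * n := by
      intro C D hCD hC hD hCN n hn c hc
      have h1 : n * c * n⁻¹ * c⁻¹ ∈ C := by
        refine C.mul_mem ?_ (C.inv_mem hc)
        have := conj_mem_conjBy hc n
        rwa [hC n hn] at this
      have h2 : n * c * n⁻¹ * c⁻¹ ∈ N := by
        have h3 : c * n⁻¹ * c⁻¹ ∈ N := by
          have := conj_mem_conjBy (N.inv_mem hn) c
          rwa [hCN c hc] at this
        have := N.mul_mem hn h3
        simpa [mul_assoc] using this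
      have h4 := rankOne_eq_one hCD h1 (hD _ h2)
      have : n * c = 1 * c * n := by
        rw [← h4]; simp [mul_assoc]
      simpa using this
    intro n hn
    rw [mem_centralizer_sup]
    exact ⟨hcomm A B h hfix hfix' (fun c hc => hNn c (Subgroup.mem_sup_left hc)) n hn,
      hcomm B A (RankOnePair_symm h) hfix' hfix (fun c hc => hNn c (Subgroup.mem_sup_right hc)) n hn⟩
  · left
    push Not at hfix
    obtain ⟨n, hn, hnA⟩ := hfix
    -- some conjugate `A^n ≠ A`; by transitivity of `A` on the rest `B = A^{n'}` with `n' ∈ N`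
    have hAn : conjBy A n ∈ unipotentSubgroups A B := conjBy_mem_unipotentSubgroups hA (hN hn)
    rcases (rankOne_mem_unipotent_iff h).1 hAn with h1 | ⟨a, ha, h1⟩
    · exact absurd h1 hnA
    · have hBN : B = conjBy A (a⁻¹ * n * a) := by
        have h2 := congrArg (fun C => conjBy C a⁻¹) h1
        simp only [conjBy_conjBy, inv_mul_cancel, conjBy_one] at h2
        rw [← conjBy_conjBy, conjBy_of_mem ha, h2]
      have hn' : a⁻¹ * n * a ∈ N := by
        have := hNn a (Subgroup.mem_sup_left ha)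
        rw [← this, mem_conjBy] at hn
        exact hn
      apply le_antisymm
      · exact sup_le hN le_sup_left
      · refine sup_le le_sup_right ?_
        rw [hBN]
        intro x hx
        rw [mem_conjBy] at hx
        have h5 : x = (a⁻¹ * n * a) * ((a⁻¹ * n * a)⁻¹ * x * (a⁻¹ * n * a)) * (a⁻¹ * n * a)⁻¹ := by
          simp [mul_assoc]
        rw [h5]
        exact Subgroup.mul_mem _ (Subgroup.mul_mem _ (Subgroup.mem_sup_left hn') (Subgroup.mem_sup_right hx))
          (Subgroup.mem_sup_left (N.inv_mem hn'))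

/-! ### Images of rank one pairs -/

/-- The image of a rank one pair under a homomorphism is a rank one pair as soon as the two images differ. -/
theorem IsRankOnePair_map {H : Type*} [Group H] (h : IsRankOnePair A B) (f : G →* H) (hne : A.map f ≠ B.map f) :
    IsRankOnePair (A.map f) (B.map f) := by
  have cond : ∀ (C D : Subgroup G), RankOneCondition C D → C.map f ≠ D.map f → RankOneCondition (C.map f) (D.map f) := by
    rintro C D hCD hne' _ ⟨c, hc, rfl⟩ hc1
    obtain ⟨d, hd, hd1, hcd⟩ := hCD c hc (fun h1 => hc1 (by rw [h1, map_one]))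
    have h2 : conjBy (C.map f) (f d)⁻¹ = conjBy (D.map f) (f c)⁻¹ := by
      rw [← map_inv, ← map_inv, ← map_conjBy, ← map_conjBy, hcd]
    refine ⟨f d, ⟨d, hd, rfl⟩, ?_, h2⟩
    intro h1
    rw [h1, inv_one, conjBy_one] at h2
    apply hne'
    rw [eq_comm, conjBy_inv_eq_iff] at h2
    rw [h2, conjBy_of_mem (Subgroup.mem_map_of_mem f hc)]
  exact
    { ne := hne
      nilpotent_left := by
        have := h.nilpotent_left
        exact Group.nilpotent_of_surjective (f.subgroupMap A) (f.subgroupMap_surjective A)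
      nilpotent_right := by
        have := h.nilpotent_right
        exact Group.nilpotent_of_surjective (f.subgroupMap B) (f.subgroupMap_surjective B)
      cond_left := cond A B h.cond_left hne
      cond_right := cond B A h.cond_right hne.symm }

/-- Rank one pairs are reflected by injective homomorphisms. -/
theorem IsRankOnePair_of_map {H : Type*} [Group H] {f : G →* H} (hf : Function.Injective f)
    (h : IsRankOnePair (A.map f) (B.map f)) : IsRankOnePair A B := by
  have cond : ∀ (C D : Subgroup G), RankOneCondition (C.map f) (D.map f) → RankOneCondition C D := by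
    intro C D hCD c hc hc1
    obtain ⟨_, ⟨d, hd, rfl⟩, hd1, hcd⟩ := hCD (f c) (Subgroup.mem_map_of_mem f hc)
      (fun h1 => hc1 (hf (by rw [h1, map_one])))
    refine ⟨d, hd, fun h1 => hd1 (by rw [h1, map_one]), ?_⟩
    rw [← map_inv, ← map_inv, ← map_conjBy, ← map_conjBy] at hcd
    exact Subgroup.map_injective hf hcd
  exact
    { ne := fun h1 => h.ne (by rw [h1])
      nilpotent_left := by
        have := h.nilpotent_left
        exact Group.nilpotent_of_surjective (A.equivMapOfInjective f hf).symm.toMonoidHom (MulEquiv.surjective _)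
      nilpotent_right := by
        have := h.nilpotent_right
        exact Group.nilpotent_of_surjective (B.equivMapOfInjective f hf).symm.toMonoidHom (MulEquiv.surjective _)
      cond_left := cond A B h.cond_left
      cond_right := cond B A h.cond_right }

theorem IsRankOnePair_map_iff {H : Type*} [Group H] {f : G →* H} (hf : Function.Injective f) :
    IsRankOnePair (A.map f) (B.map f) ↔ IsRankOnePair A B :=
  ⟨IsRankOnePair_of_map hf, fun h => IsRankOnePair_map h f (fun h1 => h.ne (Subgroup.map_injective hf h1))⟩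

/-- Rank one pairs inside a subgroup. -/
theorem IsRankOnePair_subgroupOf_iff {K : Subgroup G} (hA : A ≤ K) (hB : B ≤ K) :
    IsRankOnePair (A.subgroupOf K) (B.subgroupOf K) ↔ IsRankOnePair A B := by
  rw [← IsRankOnePair_map_iff (f := K.subtype) K.subtype_injective, Subgroup.map_subgroupOf_eq_of_le hA,
    Subgroup.map_subgroupOf_eq_of_le hB]

/-! ### Centre and second centre -/

/-- An element of `⟨A, B⟩` normalizing every unipotent subgroup centralizes `⟨A, B⟩`. -/
theorem rankOne_centralizes_of_fix (h : IsRankOnePair A B) {x : G} (hx : x ∈ A ⊔ B)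
    (hfix : ∀ C ∈ unipotentSubgroups A B, conjBy C x = C) :
    x ∈ Subgroup.centralizer ((A ⊔ B : Subgroup G) : Set G) := by
  -- the kernel of the action
  let K : Subgroup G :=
    { carrier := {y | y ∈ A ⊔ B ∧ ∀ C ∈ unipotentSubgroups A B, conjBy C y = C}
      one_mem' := ⟨Subgroup.one_mem _, fun C _ => conjBy_one C⟩
      mul_mem' := by
        rintro y z ⟨hy, hy'⟩ ⟨hz, hz'⟩
        exact ⟨Subgroup.mul_mem _ hy hz, fun C hC => by rw [← conjBy_conjBy, hz' C hC, hy' C hC]⟩
      inv_mem' := by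
        rintro y ⟨hy, hy'⟩
        exact ⟨Subgroup.inv_mem _ hy, fun C hC => by rw [conjBy_inv_eq_iff, hy' C hC]⟩ }
  have hK : K ≤ A ⊔ B := fun y hy => hy.1
  have hKn' : ∀ y ∈ A ⊔ B, ∀ k ∈ K, y⁻¹ * k * y ∈ K := by
    rintro y hy k ⟨hk, hk'⟩
    refine ⟨Subgroup.mul_mem _ (Subgroup.mul_mem _ (Subgroup.inv_mem _ hy) hk) hy, fun C hC => ?_⟩
    rw [← conjBy_conjBy, ← conjBy_conjBy, hk' _ (conjBy_mem_unipotentSubgroups hC hy), conjBy_conjBy,
      inv_mul_cancel, conjBy_one]
  have hKn : ∀ y ∈ A ⊔ B, conjBy K y = K := by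
    intro y hy
    ext k
    rw [mem_conjBy]
    constructor
    · intro hk
      have := hKn' y⁻¹ (Subgroup.inv_mem _ hy) _ hk
      simpa [mul_assoc] using this
    · intro hk
      exact hKn' y hy k hk
  rcases rankOne_dichotomy h hK hKn with h1 | h1
  · exfalso
    have h2 : K ⊔ A ≤ Subgroup.normalizer (A : Set G) :=
      sup_le (fun k hk => mem_normalizer_iff_conjBy.2 (hk.2 A (left_mem_unipotentSubgroups A B)))
        Subgroup.le_normalizer
    rw [h1] at h2
    obtain ⟨b, hb, hb1⟩ := rankOne_exists_right h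
    exact hb1 (rankOne_eq_one' h hb (mem_normalizer_iff_conjBy.1 (h2 (Subgroup.mem_sup_right hb))))
  · exact h1 ⟨hx, hfix⟩

theorem rankOne_fix_of_centralizes {z : G}
    (hz : z ∈ Subgroup.centralizer ((A ⊔ B : Subgroup G) : Set G)) {C : Subgroup G}
    (hC : C ∈ unipotentSubgroups A B) : conjBy C z = C := by
  obtain ⟨x, hx, rfl⟩ := hC
  refine conjBy_of_commute fun c hc => ?_
  have hcX : c ∈ A ⊔ B := by
    rw [mem_conjBy] at hc
    have h1 : c = x * (x⁻¹ * c * x) * x⁻¹ := by simp [mul_assoc]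
    rw [h1]
    exact Subgroup.mul_mem _ (Subgroup.mul_mem _ hx (Subgroup.mem_sup_left hc)) (Subgroup.inv_mem _ hx)
  exact (Subgroup.mem_centralizer_iff.1 hz c hcX).symm

/-- Second centre: if `x` normalizes the set of unipotent subgroups and all commutators `[x, c]`, `c` in a unipotent
subgroup, centralize `⟨A, B⟩` then `x` fixes all unipotent subgroups. -/
theorem rankOne_fix_of_commutator (h : IsRankOnePair A B) {x : G} (hx : x ∈ A ⊔ B)
    (hcomm : ∀ y ∈ A ⊔ B, x * y * x⁻¹ * y⁻¹ ∈ Subgroup.centralizer ((A ⊔ B : Subgroup G) : Set G)) :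
    ∀ C ∈ unipotentSubgroups A B, conjBy C x = C := by
  intro C hC
  by_contra hne
  have hD : conjBy C x ∈ unipotentSubgroups A B := conjBy_mem_unipotentSubgroups hC hx
  have hpair : IsRankOnePair C (conjBy C x) := rankOne_pair_of_mem h hC hD (fun h1 => hne h1.symm)
  obtain ⟨c, hc, hc1⟩ := rankOne_exists_left hpair
  have hcX : c ∈ A ⊔ B := rankOne_le_of_mem h hC hc
  have hz := hcomm c hcX
  have hxc : x * c * x⁻¹ ∈ conjBy C x := conj_mem_conjBy hc x
  have h1 : conjBy (conjBy C x) (x * c * x⁻¹) = conjBy C x := conjBy_of_mem hxc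
  have h2 : x * c * x⁻¹ = (x * c * x⁻¹ * c⁻¹) * c := by simp [mul_assoc]
  rw [h2, ← conjBy_conjBy] at h1
  have h3 : conjBy (conjBy C x) c ∈ unipotentSubgroups A B := conjBy_mem_unipotentSubgroups hD hcX
  rw [rankOne_fix_of_centralizes hz h3] at h1
  exact hc1 (rankOne_eq_one hpair hc h1)

theorem rankOne_second_centre (h : IsRankOnePair A B) {x : G} (hx : x ∈ A ⊔ B)
    (hcomm : ∀ y ∈ A ⊔ B, x * y * x⁻¹ * y⁻¹ ∈ Subgroup.centralizer ((A ⊔ B : Subgroup G) : Set G)) :
    x ∈ Subgroup.centralizer ((A ⊔ B : Subgroup G) : Set G) :=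
  rankOne_centralizes_of_fix h hx (rankOne_fix_of_commutator h hx hcomm)

theorem rankOne_not_commute (h : IsRankOnePair A B) : ¬ ⁅A, B⁆ = ⊥ := by
  intro h1
  rw [commutator_eq_bot_iff_forall] at h1
  obtain ⟨a, ha, ha1⟩ := rankOne_exists_left h
  exact ha1 (rankOne_eq_one h ha (conjBy_of_commute (h1 a ha)))

/-- No non-identity element of `A` commutes with a non-identity element of `B`. -/
theorem rankOne_commute_elem (h : IsRankOnePair A B) {a b : G} (ha : a ∈ A) (hb : b ∈ B) (hab : a * b = b * a) :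
    a = 1 ∨ b = 1 := by
  by_contra hcon
  push Not at hcon
  obtain ⟨ha1, hb1⟩ := hcon
  obtain ⟨b', hb', hb1', hab'⟩ := h.cond_left a ha ha1
  -- `b` fixes `B`, hence `b` fixes `B^a = A^{b'}`; so `b` normalizes `A^{b'}`
  have h1 : conjBy (conjBy B a⁻¹) b = conjBy B a⁻¹ := by
    have hab2 : b * a⁻¹ = a⁻¹ * b := by
      rw [eq_inv_mul_iff_mul_eq, ← mul_assoc, hab, mul_assoc, mul_inv_cancel, mul_one]
    rw [conjBy_conjBy, hab2, ← conjBy_conjBy, conjBy_of_mem hb]
  have hCm : conjBy B a⁻¹ ∈ unipotentSubgroups A B :=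
    conjBy_mem_unipotentSubgroups (right_mem_unipotentSubgroups h) (Subgroup.mem_sup_left (A.inv_mem ha))
  have hne : B ≠ conjBy B a⁻¹ := by
    intro h2
    apply ha1
    have := rankOne_eq_one h (A.inv_mem ha) h2.symm
    simpa using this
  exact hb1 (rankOne_eq_one_of_fix h (right_mem_unipotentSubgroups h) hCm hne hb h1)

/-! ### Rank one groups (generating the whole group) -/

theorem rankOneGroup_mem_centralizer_iff {x : G} (htop : A ⊔ B = ⊤) :
    x ∈ Subgroup.centralizer ((A ⊔ B : Subgroup G) : Set G) ↔ x ∈ Subgroup.center G := by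
  rw [htop, Subgroup.mem_centralizer_iff, Subgroup.mem_center_iff]
  simp

theorem rankOneGroup_second_centre (h : IsRankOneGroup G A B) :
    Subgroup.upperCentralSeries G 2 = Subgroup.center G := by
  obtain ⟨htop, h⟩ := h
  apply le_antisymm
  · intro x hx
    rw [Subgroup.mem_upperCentralSeries_succ_iff] at hx
    have := rankOne_second_centre h (x := x) (by rw [htop]; exact Subgroup.mem_top _) (by
      intro y _
      rw [rankOneGroup_mem_centralizer_iff htop, ← Subgroup.upperCentralSeries_one]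
      exact hx y)
    rwa [rankOneGroup_mem_centralizer_iff htop] at this
  · rw [← Subgroup.upperCentralSeries_one]
    exact Subgroup.upperCentralSeries_mono G (by norm_num)

end pair

end Cfsg.Agent.H731
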