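/-
Theorem T2 for quadratic pairs (helper731).
-/
import Cfsg.Agent.H731.RankOne
import Cfsg.Agent.H740.Quad
import Cfsg.Agent.S5060
set_option linter.all false

-- part: H731/QuadDefs
section
set_option autoImplicit false
open Cfsg

namespace Cfsg.Agent.H731

variable {k : Type*} [Field k] {M : Type*} [AddCommGroup M] [Module k M]

theorem one_add_mul_one_add {R : Type*} [Ring R] (x y : R) : (1 + x) * (1 + y) = 1 + (x + y) + x * y := by
  noncomm_ring

theorem one_add_mul_one_sub {R : Type*} [Ring R] (x y : R) : (1 + x) * (1 - y) = 1 + (x - y) - x * y := by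
  noncomm_ring

/-- The transvection-like unit `1 + x` for `x² = 0`. -/
def tv (x : M →ₗ[k] M) (hx : x * x = 0) : LinearMap.GeneralLinearGroup k M where
  val := 1 + x
  inv := 1 - x
  val_inv := by
    have : (1 + x) * (1 - x) = 1 - x * x := by noncomm_ring
    rw [this, hx, sub_zero]
  inv_val := by
    have : (1 - x) * (1 + x) = 1 - x * x := by noncomm_ring
    rw [this, hx, sub_zero]

@[simp] theorem tv_val (x : M →ₗ[k] M) (hx : x * x = 0) : ((tv x hx : LinearMap.GeneralLinearGroup k M) : M →ₗ[k] M) = 1 + x := rfl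

@[simp] theorem tv_inv_val (x : M →ₗ[k] M) (hx : x * x = 0) :
    (((tv x hx)⁻¹ : LinearMap.GeneralLinearGroup k M) : M →ₗ[k] M) = 1 - x := rfl

/-- `x` is a root vector of `G`. -/
def RV (G : Subgroup (LinearMap.GeneralLinearGroup k M)) (x : M →ₗ[k] M) : Prop :=
  x * x = 0 ∧ ∀ c : k, ∃ g ∈ G, (g : M →ₗ[k] M) = 1 + c • x

/-- `s` is a non-zero root vector of `G` of minimal rank. -/
def MRV (G : Subgroup (LinearMap.GeneralLinearGroup k M)) (s : M →ₗ[k] M) : Prop :=
  RV G s ∧ s ≠ 0 ∧ ∀ y, RV G y → y ≠ 0 →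
    Module.finrank k (LinearMap.range s) ≤ Module.finrank k (LinearMap.range y)

variable {G : Subgroup (LinearMap.GeneralLinearGroup k M)}

theorem RV_sq {x : M →ₗ[k] M} (h : RV G x) : x * x = 0 := h.1

theorem smul_sq {x : M →ₗ[k] M} (h : x * x = 0) (c : k) : (c • x) * (c • x) = 0 := by
  rw [smul_mul_smul_comm, h, smul_zero]

theorem RV_mem {x : M →ₗ[k] M} (h : RV G x) (c : k) : tv (c • x) (smul_sq h.1 c) ∈ G := by
  obtain ⟨g, hg, hgx⟩ := h.2 c
  have : tv (c • x) (smul_sq h.1 c) = g := Units.ext hgx.symm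
  rw [this]; exact hg

theorem RV_mem_one {x : M →ₗ[k] M} (h : RV G x) : tv x h.1 ∈ G := by
  obtain ⟨g, hg, hgx⟩ := h.2 1
  have : tv x h.1 = g := Units.ext (by rw [hgx, one_smul]; rfl)
  rw [this]; exact hg

theorem RV_of_mem {x : M →ₗ[k] M} (hx : x * x = 0) (h : ∀ c : k, tv (c • x) (smul_sq hx c) ∈ G) : RV G x :=
  ⟨hx, fun c => ⟨_, h c, rfl⟩⟩

theorem RV_zero : RV G (0 : M →ₗ[k] M) :=
  ⟨mul_zero _, fun c => ⟨1, G.one_mem, by simp⟩⟩

theorem RV_smul {x : M →ₗ[k] M} (h : RV G x) (c : k) : RV G (c • x) :=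
  ⟨smul_sq h.1 c, fun d => by
    obtain ⟨g, hg, hgx⟩ := h.2 (d * c)
    exact ⟨g, hg, by rw [hgx, mul_smul]⟩⟩

theorem RV_neg {x : M →ₗ[k] M} (h : RV G x) : RV G (-x) := by
  have := RV_smul h (-1 : k)
  rwa [neg_one_smul] at this

theorem RV_add {x y : M →ₗ[k] M} (hx : RV G x) (hy : RV G y) (hxy : x * y = 0) (hyx : y * x = 0) : RV G (x + y) := by
  refine ⟨?_, fun c => ?_⟩
  · have : (x + y) * (x + y) = x * x + x * y + y * x + y * y := by noncomm_ring
    rw [this, hx.1, hy.1, hxy, hyx]; simp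
  · obtain ⟨g, hg, hgx⟩ := hx.2 c
    obtain ⟨h, hh, hhy⟩ := hy.2 c
    refine ⟨g * h, G.mul_mem hg hh, ?_⟩
    rw [Units.val_mul, hgx, hhy]
    rw [one_add_mul_one_add, smul_mul_smul_comm, hxy, smul_zero, add_zero, smul_add]

theorem RV_sub {x y : M →ₗ[k] M} (hx : RV G x) (hy : RV G y) (hxy : x * y = 0) (hyx : y * x = 0) : RV G (x - y) := by
  rw [sub_eq_add_neg]
  exact RV_add hx (RV_neg hy) (by rw [mul_neg, hxy, neg_zero]) (by rw [neg_mul, hyx, neg_zero])

/-- conjugation on endomorphisms -/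
def cj (g : LinearMap.GeneralLinearGroup k M) (x : M →ₗ[k] M) : M →ₗ[k] M :=
  (g : M →ₗ[k] M) * x * ((g⁻¹ : LinearMap.GeneralLinearGroup k M) : M →ₗ[k] M)

theorem cj_mul (g : LinearMap.GeneralLinearGroup k M) (x y : M →ₗ[k] M) : cj g (x * y) = cj g x * cj g y := by
  unfold cj
  have h : ((g⁻¹ : LinearMap.GeneralLinearGroup k M) : M →ₗ[k] M) * (g : M →ₗ[k] M) = 1 := Units.inv_mul g
  calc (g : M →ₗ[k] M) * (x * y) * ((g⁻¹ : LinearMap.GeneralLinearGroup k M) : M →ₗ[k] M)
      = (g : M →ₗ[k] M) * x * 1 * y * ((g⁻¹ : LinearMap.GeneralLinearGroup k M) : M →ₗ[k] M) := by noncomm_ring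
    _ = _ := by rw [← h]; noncomm_ring

theorem cj_add (g : LinearMap.GeneralLinearGroup k M) (x y : M →ₗ[k] M) : cj g (x + y) = cj g x + cj g y := by
  unfold cj; noncomm_ring

theorem cj_sub (g : LinearMap.GeneralLinearGroup k M) (x y : M →ₗ[k] M) : cj g (x - y) = cj g x - cj g y := by
  unfold cj; noncomm_ring

theorem cj_neg (g : LinearMap.GeneralLinearGroup k M) (x : M →ₗ[k] M) : cj g (-x) = -cj g x := by
  unfold cj; noncomm_ring

theorem cj_smul (g : LinearMap.GeneralLinearGroup k M) (c : k) (x : M →ₗ[k] M) : cj g (c • x) = c • cj g x := by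
  unfold cj; rw [mul_smul_comm, smul_mul_assoc]

theorem cj_zero (g : LinearMap.GeneralLinearGroup k M) : cj g (0 : M →ₗ[k] M) = 0 := by
  unfold cj; rw [mul_zero, zero_mul]

theorem cj_one (g : LinearMap.GeneralLinearGroup k M) : cj g (1 : M →ₗ[k] M) = 1 := by
  unfold cj; rw [mul_one]; exact Units.mul_inv g

theorem cj_cj (g h : LinearMap.GeneralLinearGroup k M) (x : M →ₗ[k] M) : cj g (cj h x) = cj (g * h) x := by
  unfold cj
  rw [mul_inv_rev, Units.val_mul, Units.val_mul]
  noncomm_ring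

theorem cj_one_left (x : M →ₗ[k] M) : cj (1 : LinearMap.GeneralLinearGroup k M) x = x := by
  unfold cj; simp

theorem cj_inv_cj (g : LinearMap.GeneralLinearGroup k M) (x : M →ₗ[k] M) : cj g⁻¹ (cj g x) = x := by
  rw [cj_cj, inv_mul_cancel, cj_one_left]

theorem cj_cj_inv (g : LinearMap.GeneralLinearGroup k M) (x : M →ₗ[k] M) : cj g (cj g⁻¹ x) = x := by
  rw [cj_cj, mul_inv_cancel, cj_one_left]

theorem cj_eq_zero {g : LinearMap.GeneralLinearGroup k M} {x : M →ₗ[k] M} : cj g x = 0 ↔ x = 0 := by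
  constructor
  · intro h
    rw [← cj_inv_cj g x, h, cj_zero]
  · rintro rfl; exact cj_zero g

theorem cj_val (g h : LinearMap.GeneralLinearGroup k M) :
    cj g (h : M →ₗ[k] M) = ((g * h * g⁻¹ : LinearMap.GeneralLinearGroup k M) : M →ₗ[k] M) := by
  unfold cj; rw [Units.val_mul, Units.val_mul]

/-- Conjugation by `1 + y`. -/
theorem cj_tv (y : M →ₗ[k] M) (hy : y * y = 0) (x : M →ₗ[k] M) :
    cj (tv y hy) x = x + (y * x - x * y) - y * x * y := by
  unfold cj; rw [tv_val, tv_inv_val]; noncomm_ring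

theorem RV_cj {x : M →ₗ[k] M} (h : RV G x) {g : LinearMap.GeneralLinearGroup k M} (hg : g ∈ G) : RV G (cj g x) := by
  refine ⟨by rw [← cj_mul, h.1, cj_zero], fun c => ?_⟩
  obtain ⟨a, ha, hax⟩ := h.2 c
  refine ⟨g * a * g⁻¹, G.mul_mem (G.mul_mem hg ha) (G.inv_mem hg), ?_⟩
  rw [← cj_val, hax, cj_add, cj_one, cj_smul]

theorem range_cj (g : LinearMap.GeneralLinearGroup k M) (x : M →ₗ[k] M) :
    LinearMap.range (cj g x) = (LinearMap.range x).map (g : M →ₗ[k] M) := by
  unfold cj
  ext v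
  constructor
  · rintro ⟨w, rfl⟩
    exact ⟨x (((g⁻¹ : LinearMap.GeneralLinearGroup k M) : M →ₗ[k] M) w), ⟨_, rfl⟩, rfl⟩
  · rintro ⟨_, ⟨w, rfl⟩, rfl⟩
    refine ⟨(g : M →ₗ[k] M) w, ?_⟩
    have h : ((g⁻¹ : LinearMap.GeneralLinearGroup k M) : M →ₗ[k] M) ((g : M →ₗ[k] M) w) = w := by
      rw [← Module.End.mul_apply, Units.inv_mul, Module.End.one_apply]
    rw [Module.End.mul_apply, Module.End.mul_apply, h]

theorem ker_cj (g : LinearMap.GeneralLinearGroup k M) (x : M →ₗ[k] M) :
    LinearMap.ker (cj g x) = (LinearMap.ker x).map (g : M →ₗ[k] M) := by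
  unfold cj
  have h1 : ∀ w, ((g⁻¹ : LinearMap.GeneralLinearGroup k M) : M →ₗ[k] M) ((g : M →ₗ[k] M) w) = w := fun w => by
    rw [← Module.End.mul_apply, Units.inv_mul, Module.End.one_apply]
  have h2 : ∀ w, (g : M →ₗ[k] M) (((g⁻¹ : LinearMap.GeneralLinearGroup k M) : M →ₗ[k] M) w) = w := fun w => by
    rw [← Module.End.mul_apply, Units.mul_inv, Module.End.one_apply]
  ext v
  constructor
  · intro hv
    rw [LinearMap.mem_ker, Module.End.mul_apply, Module.End.mul_apply] at hv
    refine ⟨((g⁻¹ : LinearMap.GeneralLinearGroup k M) : M →ₗ[k] M) v, ?_, h2 v⟩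
    have := congrArg (fun w => ((g⁻¹ : LinearMap.GeneralLinearGroup k M) : M →ₗ[k] M) w) hv
    simp only [h1, map_zero] at this
    exact this
  · rintro ⟨w, hw, rfl⟩
    rw [LinearMap.mem_ker, Module.End.mul_apply, Module.End.mul_apply, h1]
    have : x w = 0 := hw
    rw [this, map_zero]

theorem injective_val (g : LinearMap.GeneralLinearGroup k M) : Function.Injective (g : M →ₗ[k] M) := by
  intro v w h
  have h1 : ∀ w, ((g⁻¹ : LinearMap.GeneralLinearGroup k M) : M →ₗ[k] M) ((g : M →ₗ[k] M) w) = w := fun w => by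
    rw [← Module.End.mul_apply, Units.inv_mul, Module.End.one_apply]
  rw [← h1 v, ← h1 w, h]

theorem finrank_range_cj (g : LinearMap.GeneralLinearGroup k M) (x : M →ₗ[k] M) :
    Module.finrank k (LinearMap.range (cj g x)) = Module.finrank k (LinearMap.range x) := by
  rw [range_cj]
  exact (Submodule.equivMapOfInjective (g : M →ₗ[k] M) (injective_val g) (LinearMap.range x)).finrank_eq.symm

theorem range_smul {x : M →ₗ[k] M} {c : k} (hc : c ≠ 0) : LinearMap.range (c • x) = LinearMap.range x :=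
  LinearMap.range_smul x c hc

theorem ker_smul {x : M →ₗ[k] M} {c : k} (hc : c ≠ 0) : LinearMap.ker (c • x) = LinearMap.ker x :=
  LinearMap.ker_smul x c hc

theorem MRV_cj {s : M →ₗ[k] M} (h : MRV G s) {g : LinearMap.GeneralLinearGroup k M} (hg : g ∈ G) : MRV G (cj g s) :=
  ⟨RV_cj h.1 hg, fun h0 => h.2.1 (cj_eq_zero.1 h0), fun y hy hy0 => by
    rw [finrank_range_cj]; exact h.2.2 y hy hy0⟩

theorem MRV_smul {s : M →ₗ[k] M} (h : MRV G s) {c : k} (hc : c ≠ 0) : MRV G (c • s) :=
  ⟨RV_smul h.1 c, fun h0 => h.2.1 ((smul_eq_zero.1 h0).resolve_left hc), fun y hy hy0 => by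
    rw [range_smul hc]; exact h.2.2 y hy hy0⟩

theorem MRV_eq_zero_of_lt {s y : M →ₗ[k] M} (h : MRV G s) (hy : RV G y)
    (hlt : Module.finrank k (LinearMap.range y) < Module.finrank k (LinearMap.range s)) : y = 0 := by
  by_contra hy0
  exact absurd (h.2.2 y hy hy0) (not_le.2 hlt)

/-- A non-zero root vector whose rank is at most the minimal rank is minimal. -/
theorem MRV_of_le {s y : M →ₗ[k] M} (h : MRV G s) (hy : RV G y) (hy0 : y ≠ 0)
    (hle : Module.finrank k (LinearMap.range y) ≤ Module.finrank k (LinearMap.range s)) : MRV G y :=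
  ⟨hy, hy0, fun z hz hz0 => hle.trans (h.2.2 z hz hz0)⟩

theorem MRV_rank_eq {s t : M →ₗ[k] M} (hs : MRV G s) (ht : MRV G t) :
    Module.finrank k (LinearMap.range s) = Module.finrank k (LinearMap.range t) :=
  le_antisymm (hs.2.2 t ht.1 ht.2.1) (ht.2.2 s hs.1 hs.2.1)

theorem exists_sq_sub_sq (hk : ringChar k ≠ 2) (c : k) : ∃ a b : k, a ^ 2 - b ^ 2 = c := by
  have h2 : (2 : k) ≠ 0 := Ring.two_ne_zero hk
  refine ⟨(c + 1) / 2, (c - 1) / 2, ?_⟩
  field_simp
  ring

/-- It suffices to know `1 + c² x ∈ G`. -/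
theorem RV_of_squares (hk : ringChar k ≠ 2) {x : M →ₗ[k] M} (hx : x * x = 0)
    (h : ∀ c : k, ∃ g ∈ G, (g : M →ₗ[k] M) = 1 + (c ^ 2) • x) : RV G x := by
  refine RV_of_mem hx fun c => ?_
  obtain ⟨a, b, hab⟩ := exists_sq_sub_sq hk c
  have ha : tv (a ^ 2 • x) (smul_sq hx _) ∈ G := by
    obtain ⟨g, hg, hgx⟩ := h a
    have : tv (a ^ 2 • x) (smul_sq hx _) = g := Units.ext hgx.symm
    rw [this]; exact hg
  have hb : tv (b ^ 2 • x) (smul_sq hx _) ∈ G := by
    obtain ⟨g, hg, hgx⟩ := h b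
    have : tv (b ^ 2 • x) (smul_sq hx _) = g := Units.ext hgx.symm
    rw [this]; exact hg
  have hc : tv (c • x) (smul_sq hx c) = tv (a ^ 2 • x) (smul_sq hx _) * (tv (b ^ 2 • x) (smul_sq hx _))⁻¹ := by
    apply Units.ext
    rw [Units.val_mul, tv_val, tv_val, tv_inv_val]
    rw [one_add_mul_one_sub, smul_mul_smul_comm, hx, smul_zero, sub_zero, ← sub_smul, hab]
  rw [hc]
  exact G.mul_mem ha (G.inv_mem hb)

/-! ### Bridges to the definitions of the Prelude -/

theorem mem_quadraticElements_iff {σ : LinearMap.GeneralLinearGroup k M} :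
    σ ∈ quadraticElements G ↔ RV G ((σ : M →ₗ[k] M) - 1) ∧ (σ : M →ₗ[k] M) - 1 ≠ 0 := by
  constructor
  · rintro ⟨-, ⟨h1, h2⟩, h3⟩
    refine ⟨⟨h1, fun c => ?_⟩, h2⟩
    refine ⟨tv (c • ((σ : M →ₗ[k] M) - 1)) (smul_sq h1 c), h3 ⟨c, rfl⟩, rfl⟩
  · rintro ⟨h1, h2⟩
    refine ⟨?_, ⟨h1.1, h2⟩, ?_⟩
    · have := RV_mem_one h1
      have h3 : tv ((σ : M →ₗ[k] M) - 1) h1.1 = σ := Units.ext (by rw [tv_val]; abel)
      rwa [h3] at this
    · rintro τ ⟨c, hc⟩
      have h3 : tv (c • ((σ : M →ₗ[k] M) - 1)) (smul_sq h1.1 c) = τ := Units.ext hc.symm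
      rw [← h3]; exact RV_mem h1 c

theorem tv_mem_quadraticElements {x : M →ₗ[k] M} (h : RV G x) (h0 : x ≠ 0) : tv x h.1 ∈ quadraticElements G := by
  rw [mem_quadraticElements_iff, tv_val, add_sub_cancel_left]
  exact ⟨h, h0⟩

theorem mem_minimalQuadraticElements_iff {σ : LinearMap.GeneralLinearGroup k M} :
    σ ∈ minimalQuadraticElements G ↔ MRV G ((σ : M →ₗ[k] M) - 1) := by
  constructor
  · rintro ⟨h1, h2⟩
    rw [mem_quadraticElements_iff] at h1
    refine ⟨h1.1, h1.2, fun y hy hy0 => ?_⟩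
    have := h2 _ (tv_mem_quadraticElements hy hy0)
    unfold commutatorRank at this
    rwa [tv_val, add_sub_cancel_left] at this
  · rintro ⟨h1, h2, h3⟩
    refine ⟨mem_quadraticElements_iff.2 ⟨h1, h2⟩, fun τ hτ => ?_⟩
    rw [mem_quadraticElements_iff] at hτ
    exact h3 _ hτ.1 hτ.2

theorem mem_sameActionClass_iff {σ τ : LinearMap.GeneralLinearGroup k M} :
    τ ∈ sameActionClass G σ ↔ MRV G ((τ : M →ₗ[k] M) - 1) ∧
      LinearMap.ker ((τ : M →ₗ[k] M) - 1) = LinearMap.ker ((σ : M →ₗ[k] M) - 1) ∧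
      LinearMap.range ((τ : M →ₗ[k] M) - 1) = LinearMap.range ((σ : M →ₗ[k] M) - 1) := by
  unfold sameActionClass
  rw [Set.mem_ofPred_eq, mem_minimalQuadraticElements_iff]

/-- The root space of a minimal root vector `s`: zero and the root vectors with the same kernel and range. -/
def IsES (G : Subgroup (LinearMap.GeneralLinearGroup k M)) (s x : M →ₗ[k] M) : Prop :=
  RV G x ∧ (x = 0 ∨ (LinearMap.ker x = LinearMap.ker s ∧ LinearMap.range x = LinearMap.range s))

theorem IsES_zero {s : M →ₗ[k] M} : IsES G s 0 := ⟨RV_zero, Or.inl rfl⟩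

theorem IsES_self {s : M →ₗ[k] M} (hs : RV G s) : IsES G s s := ⟨hs, Or.inr ⟨rfl, rfl⟩⟩

theorem IsES_smul {s x : M →ₗ[k] M} (h : IsES G s x) (c : k) : IsES G s (c • x) := by
  refine ⟨RV_smul h.1 c, ?_⟩
  rcases h.2 with h0 | h1
  · left; rw [h0, smul_zero]
  · by_cases hc : c = 0
    · left; rw [hc, zero_smul]
    · right; rw [ker_smul hc, range_smul hc]; exact h1

theorem IsES_neg {s x : M →ₗ[k] M} (h : IsES G s x) : IsES G s (-x) := by
  have := IsES_smul h (-1 : k)
  rwa [neg_one_smul] at this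

theorem range_le_ker {x : M →ₗ[k] M} (hx : x * x = 0) : LinearMap.range x ≤ LinearMap.ker x := by
  rintro _ ⟨v, rfl⟩
  rw [LinearMap.mem_ker, ← Module.End.mul_apply, hx, LinearMap.zero_apply]

theorem mul_eq_zero_of_range_le {x y : M →ₗ[k] M} (h : LinearMap.range y ≤ LinearMap.ker x) : x * y = 0 := by
  ext v
  rw [Module.End.mul_apply, LinearMap.zero_apply]
  exact h ⟨v, rfl⟩

theorem IsES_mul {s x y : M →ₗ[k] M} (hs : RV G s) (hx : IsES G s x) (hy : IsES G s y) : x * y = 0 := by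
  rcases hx.2 with h0 | ⟨h1, h2⟩
  · rw [h0, zero_mul]
  rcases hy.2 with h0' | ⟨h3, h4⟩
  · rw [h0', mul_zero]
  apply mul_eq_zero_of_range_le
  rw [h1, h4]
  exact range_le_ker hs.1

theorem IsES_add [FiniteDimensional k M] {s x y : M →ₗ[k] M} (hs : MRV G s) (hx : IsES G s x) (hy : IsES G s y) :
    IsES G s (x + y) := by
  refine ⟨RV_add hx.1 hy.1 (IsES_mul hs.1 hx hy) (IsES_mul hs.1 hy hx), ?_⟩
  by_cases h0 : x + y = 0
  · left; exact h0
  right
  rcases hx.2 with hx0 | ⟨h1, h2⟩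
  · rw [hx0, zero_add] at h0 ⊢
    exact hy.2.resolve_left h0
  rcases hy.2 with hy0 | ⟨h3, h4⟩
  · rw [hy0, add_zero] at h0 ⊢
    exact ⟨h1, h2⟩
  have hrle : LinearMap.range (x + y) ≤ LinearMap.range s := by
    rintro _ ⟨v, rfl⟩
    rw [LinearMap.add_apply]
    exact Submodule.add_mem _ (h2 ▸ ⟨v, rfl⟩) (h4 ▸ ⟨v, rfl⟩)
  have hkle : LinearMap.ker s ≤ LinearMap.ker (x + y) := by
    intro v hv
    have e1 : x v = 0 := by
      have : v ∈ LinearMap.ker x := by rw [h1]; exact hv
      exact this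
    have e2 : y v = 0 := by
      have : v ∈ LinearMap.ker y := by rw [h3]; exact hv
      exact this
    rw [LinearMap.mem_ker, LinearMap.add_apply, e1, e2, add_zero]
  have hrank := hs.2.2 _ (RV_add hx.1 hy.1 (IsES_mul hs.1 hx hy) (IsES_mul hs.1 hy hx)) h0
  have hr : LinearMap.range (x + y) = LinearMap.range s := Submodule.eq_of_le_of_finrank_le hrle hrank
  refine ⟨?_, hr⟩
  symm
  apply Submodule.eq_of_le_of_finrank_le hkle
  have e1 := LinearMap.finrank_range_add_finrank_ker (x + y)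
  have e2 := LinearMap.finrank_range_add_finrank_ker s
  rw [hr] at e1
  omega

/-- The root space as a subspace of `End M`. -/
def rootSpace [FiniteDimensional k M] (G : Subgroup (LinearMap.GeneralLinearGroup k M)) (s : M →ₗ[k] M)
    (hs : MRV G s) : Submodule k (M →ₗ[k] M) where
  carrier := {x | IsES G s x}
  zero_mem' := IsES_zero
  add_mem' := fun hx hy => IsES_add hs hx hy
  smul_mem' := fun c _ hx => IsES_smul hx c

theorem IsES_MRV {s x : M →ₗ[k] M} (hs : MRV G s) (hx : IsES G s x) (hx0 : x ≠ 0) : MRV G x := by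
  obtain ⟨h1, h2⟩ := hx.2.resolve_left hx0
  exact ⟨hx.1, hx0, fun y hy hy0 => by rw [h2]; exact hs.2.2 y hy hy0⟩

/-- Description of `E(σ)`: `g ∈ E(σ)` iff `g - 1` lies in the root space. -/
theorem mem_sameActionSubgroup_iff [FiniteDimensional k M] {σ g : LinearMap.GeneralLinearGroup k M}
    (hσ : σ ∈ minimalQuadraticElements G) :
    g ∈ sameActionSubgroup G σ ↔ IsES G ((σ : M →ₗ[k] M) - 1) ((g : M →ₗ[k] M) - 1) := by
  have hs : MRV G ((σ : M →ₗ[k] M) - 1) := mem_minimalQuadraticElements_iff.1 hσ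
  constructor
  · intro hg
    unfold sameActionSubgroup at hg
    induction hg using Subgroup.closure_induction with
    | mem τ hτ =>
      rw [mem_sameActionClass_iff] at hτ
      exact ⟨hτ.1.1, Or.inr hτ.2⟩
    | one => rw [Units.val_one, sub_self]; exact IsES_zero
    | mul x y _ _ hx hy =>
      have h1 : ((x * y : LinearMap.GeneralLinearGroup k M) : M →ₗ[k] M) - 1 =
          ((x : M →ₗ[k] M) - 1) + ((y : M →ₗ[k] M) - 1) + ((x : M →ₗ[k] M) - 1) * ((y : M →ₗ[k] M) - 1) := by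
        rw [Units.val_mul]; noncomm_ring
      rw [h1, IsES_mul hs.1 hx hy, add_zero]
      exact IsES_add hs hx hy
    | inv x _ hx =>
      have h1 : ((x⁻¹ : LinearMap.GeneralLinearGroup k M) : M →ₗ[k] M) - 1 = -((x : M →ₗ[k] M) - 1) := by
        have h2 : tv ((x : M →ₗ[k] M) - 1) hx.1.1 = x := Units.ext (by rw [tv_val]; abel)
        have h3 : ((x⁻¹ : LinearMap.GeneralLinearGroup k M) : M →ₗ[k] M) = 1 - ((x : M →ₗ[k] M) - 1) := by
          conv_lhs => rw [← h2]
          rw [tv_inv_val]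
        rw [h3]; abel
      rw [h1]; exact IsES_neg hx
  · intro hg
    by_cases h0 : (g : M →ₗ[k] M) - 1 = 0
    · have : g = 1 := Units.ext (by rw [Units.val_one]; exact sub_eq_zero.1 h0)
      rw [this]; exact Subgroup.one_mem _
    · apply Subgroup.subset_closure
      rw [mem_sameActionClass_iff]
      exact ⟨IsES_MRV hs hg h0, hg.2.resolve_left h0⟩

theorem mem_sameActionSubgroup_iff' [FiniteDimensional k M] {s : M →ₗ[k] M} (hs : MRV G s)
    {g : LinearMap.GeneralLinearGroup k M} :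
    g ∈ sameActionSubgroup G (tv s hs.1.1) ↔ IsES G s ((g : M →ₗ[k] M) - 1) := by
  have hσ : tv s hs.1.1 ∈ minimalQuadraticElements G := by
    rw [mem_minimalQuadraticElements_iff, tv_val, add_sub_cancel_left]; exact hs
  rw [mem_sameActionSubgroup_iff hσ, tv_val, add_sub_cancel_left]

theorem mem_quadraticRootSubgroups_iff {A : Subgroup (LinearMap.GeneralLinearGroup k M)} :
    A ∈ quadraticRootSubgroups G ↔ ∃ (s : M →ₗ[k] M) (hs : MRV G s), A = sameActionSubgroup G (tv s hs.1.1) := by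
  constructor
  · rintro ⟨σ, hσ, rfl⟩
    have hs := mem_minimalQuadraticElements_iff.1 hσ
    refine ⟨_, hs, ?_⟩
    congr 1
    exact Units.ext (by rw [tv_val]; abel)
  · rintro ⟨s, hs, rfl⟩
    refine ⟨tv s hs.1.1, ?_, rfl⟩
    rw [mem_minimalQuadraticElements_iff, tv_val, add_sub_cancel_left]; exact hs

end Cfsg.Agent.H731
end

-- part: H731/QuadT1
section
set_option autoImplicit false
open Cfsg

namespace Cfsg.Agent.H731

section ringfacts

variable {R : Type*} [Ring R] {s r : R}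

theorem z_pow (hs : s * s = 0) (hr : r * r = 0) (n : ℕ) (hn : 1 ≤ n) : (s * r + r * s) ^ n = (s * r) ^ n + (r * s) ^ n := by
  induction n, hn using Nat.le_induction with
  | base => simp
  | succ n hn ih =>
    rw [pow_succ, ih]
    obtain ⟨m, rfl⟩ : ∃ m, n = m + 1 := ⟨n - 1, by omega⟩
    have h1 : (s * r) ^ (m + 1) * (r * s) = 0 := by
      rw [pow_succ]
      calc (s * r) ^ m * (s * r) * (r * s) = (s * r) ^ m * (s * (r * r) * s) := by noncomm_ring
        _ = 0 := by rw [hr]; simp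
    have h2 : (r * s) ^ (m + 1) * (s * r) = 0 := by
      rw [pow_succ]
      calc (r * s) ^ m * (r * s) * (s * r) = (r * s) ^ m * (r * (s * s) * r) := by noncomm_ring
        _ = 0 := by rw [hs]; simp
    rw [mul_add, add_mul, add_mul, h1, h2, ← pow_succ, ← pow_succ]
    abel

theorem nilpotent_z_of_nilpotent_mul (hs : s * s = 0) (hr : r * r = 0) (h : IsNilpotent (s * r)) :
    IsNilpotent (s * r + r * s) := by
  obtain ⟨n, hn⟩ := h
  refine ⟨n + 1, ?_⟩
  rw [z_pow hs hr _ (by omega)]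
  have h1 : (s * r) ^ (n + 1) = 0 := by rw [pow_succ, hn, zero_mul]
  have h2 : (r * s) ^ (n + 1) = 0 := by
    have : ∀ m : ℕ, (r * s) ^ (m + 1) = r * (s * r) ^ m * s := by
      intro m
      induction m with
      | zero => simp
      | succ m ih => rw [pow_succ, ih, pow_succ]; noncomm_ring
    rw [this, hn, mul_zero, zero_mul]
  rw [h1, h2, add_zero]

theorem nilpotent_mul_of_nilpotent_z (hs : s * s = 0) (hr : r * r = 0) (h : IsNilpotent (s * r + r * s)) :
    IsNilpotent (s * r) := by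
  obtain ⟨n, hn⟩ := h
  rcases Nat.eq_zero_or_pos n with h0 | h0
  · subst h0
    rw [pow_zero] at hn
    exact ⟨0, by rw [pow_zero, hn]⟩
  · refine ⟨n + 1, ?_⟩
    have h1 : (s * r + r * s) ^ n * (s * r) = (s * r) ^ (n + 1) := by
      rw [z_pow hs hr n h0, add_mul, ← pow_succ]
      obtain ⟨m, rfl⟩ : ∃ m, n = m + 1 := ⟨n - 1, by omega⟩
      have h2 : (r * s) ^ (m + 1) * (s * r) = 0 := by
        rw [pow_succ]
        calc (r * s) ^ m * (r * s) * (s * r) = (r * s) ^ m * (r * (s * s) * r) := by noncomm_ring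
          _ = 0 := by rw [hs]; simp
      rw [h2, add_zero]
    rw [← h1, hn, zero_mul]

/-- `z = sr + rs` for the pair `(s, s^r)` is `-z²`. -/
theorem z_conj (hs : s * s = 0) (hr : r * r = 0) :
    s * (s + (r * s - s * r) - r * s * r) + (s + (r * s - s * r) - r * s * r) * s = -((s * r + r * s) ^ 2) := by
  have e : s * (s + (r * s - s * r) - r * s * r) + (s + (r * s - s * r) - r * s * r) * s =
      (s * s + s * s + r * (s * s) - (s * s) * r) - (s * r * s * r + r * s * r * s) := by noncomm_ring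
  have e2 : (s * r + r * s) ^ 2 = s * r * s * r + s * (r * r) * s + r * (s * s) * r + r * s * r * s := by
    noncomm_ring
  rw [e, e2, hs, hr]
  simp

theorem sss_conj (hs : s * s = 0) :
    s * (s + (r * s - s * r) - r * s * r) * s = -(s * r * s * r * s) := by
  have e : s * (s + (r * s - s * r) - r * s * r) * s =
      s * s * s + s * r * (s * s) - (s * s) * r * s - s * r * s * r * s := by noncomm_ring
  rw [e, hs]; simp

end ringfacts

variable {k : Type*} [Field k] {M : Type*} [AddCommGroup M] [Module k M]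
variable {G : Subgroup (LinearMap.GeneralLinearGroup k M)}

/-- The case `s r s r s = 0`. -/
theorem T1_aux [FiniteDimensional k M] (hk : ringChar k ≠ 2) {s r : M →ₗ[k] M} (hs : MRV G s) (hr : RV G r)
    (h5 : s * r * s * r * s = 0) : s * r * s = 0 := by
  have hss := hs.1.1
  have hrr := hr.1
  have h2 : (2 : k) ≠ 0 := Ring.two_ne_zero hk
  set u := s * r * s with hu
  set v := r * s * r * s - s * r * s * r with hv
  have su : s * u = 0 := by rw [hu]; calc s * (s * r * s) = (s * s) * r * s := by noncomm_ring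
    _ = 0 := by rw [hss]; simp
  have us : u * s = 0 := by rw [hu]; calc (s * r * s) * s = s * r * (s * s) := by noncomm_ring
    _ = 0 := by rw [hss]; simp
  have uu : u * u = 0 := by
    rw [hu]; calc (s * r * s) * (s * r * s) = s * r * (s * s) * r * s := by noncomm_ring
    _ = 0 := by rw [hss]; simp
  have sv : s * v = 0 := by
    rw [hv]; calc s * (r * s * r * s - s * r * s * r) = s * r * s * r * s - (s * s) * r * s * r := by noncomm_ring
    _ = 0 := by rw [hss, h5]; simp
  have vs : v * s = 0 := by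
    rw [hv]; calc (r * s * r * s - s * r * s * r) * s = r * s * r * (s * s) - s * r * s * r * s := by noncomm_ring
    _ = 0 := by rw [hss, h5]; simp
  have uv : u * v = 0 := by
    rw [hu]; calc s * r * s * v = s * r * (s * v) := by noncomm_ring
    _ = 0 := by rw [sv]; simp
  have vu : v * u = 0 := by
    rw [hu]; calc v * (s * r * s) = (v * s) * r * s := by noncomm_ring
    _ = 0 := by rw [vs]; simp
  have vv : v * v = 0 := by
    have e : v * v = r * s * r * (s * v) - s * r * (s * r * v) := by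
      conv_lhs => rw [hv]
      conv_rhs => rw [hv]
      noncomm_ring
    have e2 : s * r * v = s * (r * r) * s * r * s - s * r * s * r * s * r := by
      rw [hv]; noncomm_ring
    rw [e, sv, e2, hrr, h5]; simp
  -- the elements `s_b`
  have key : ∀ b : k, RV G (s - (2 * b) • u - (b ^ 2) • v) := by
    intro b
    have hbr : RV G (b • r) := RV_smul hr b
    have hsb : RV G (cj (tv (b • r) (smul_sq hr.1 b)) s) := RV_cj hs.1 (RV_mem hr b)
    set sb := cj (tv (b • r) (smul_sq hr.1 b)) s with hsbdef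
    have esb : sb = s + b • (r * s - s * r) - (b ^ 2) • (r * s * r) := by
      rw [hsbdef, cj_tv]
      simp only [smul_mul_assoc, mul_smul_comm, smul_smul, smul_sub, pow_two]
    have e1 : sb * s - s * sb = -((2 * b) • u) - (b ^ 2) • v := by
      have e2 : sb * s = s * s + b • (r * (s * s) - s * r * s) - (b ^ 2) • (r * s * r * s) := by
        rw [esb]
        simp only [sub_mul, add_mul, smul_mul_assoc, mul_assoc]
      have e3 : s * sb = s * s + b • (s * r * s - (s * s) * r) - (b ^ 2) • (s * r * s * r) := by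
        rw [esb]
        simp only [mul_sub, mul_add, mul_smul_comm, mul_assoc]
      rw [e2, e3, hss, hu, hv]
      simp only [mul_zero, zero_mul, zero_sub, sub_zero, smul_neg, smul_sub, mul_smul, two_smul, zero_add,
        mul_assoc]
      abel
    have e4 : s * sb * s = 0 := by
      have e5 : s * sb * s = (s * s) * s + b • (s * r * (s * s) - (s * s) * r * s) - (b ^ 2) • (s * r * s * r * s) := by
        rw [esb]
        simp only [mul_sub, mul_add, mul_smul_comm, smul_mul_assoc, sub_mul, add_mul, mul_assoc]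
      rw [e5, hss, h5]; simp
    have e6 : sb * s * sb = 0 := by
      -- conjugate of `s * s_{-b} * s`
      set g := tv (b • r) (smul_sq hr.1 b) with hg
      have e5 : s * cj g⁻¹ s * s = 0 := by
        have e7 : cj g⁻¹ s = (1 - b • r) * s * (1 + b • r) := by
          unfold cj; rw [inv_inv]; rfl
        rw [e7]
        have e8 : s * ((1 - b • r) * s * (1 + b • r)) * s =
            (s * s) * s + b • ((s * s) * r * s) - b • (s * r * (s * s)) - (b * b) • (s * r * s * r * s) := by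
          simp only [mul_sub, mul_add, mul_smul_comm, smul_mul_assoc, sub_mul, add_mul, mul_assoc, one_mul, mul_one,
            smul_sub, smul_add, smul_smul]
          abel
        rw [e8, hss, h5]; simp
      have e9 : cj g (s * cj g⁻¹ s * s) = sb * s * sb := by
        rw [cj_mul, cj_mul, cj_cj_inv]
      rw [← e9, e5, cj_zero]
    have hcj : RV G (cj (tv sb hsb.1) s) := RV_cj hs.1 (RV_mem_one hsb)
    rw [cj_tv, e6, sub_zero, e1] at hcj
    have : s + (-((2 * b) • u) - (b ^ 2) • v) = s - (2 * b) • u - (b ^ 2) • v := by abel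
    rwa [this] at hcj
  have k1 := key 1
  have k2 := key (-1)
  have prod : ∀ a b c d : k, (s + a • u + b • v) * (s + c • u + d • v) = 0 := by
    intro a b c d
    simp only [mul_add, add_mul, smul_mul_assoc, mul_smul_comm, hss, su, us, uu, sv, vs, uv, vu, vv, smul_zero,
      add_zero]
  have f1 : s - (2 * (1 : k)) • u - ((1 : k) ^ 2) • v = s + (-2 : k) • u + (-1 : k) • v := by
    rw [mul_one, one_pow, neg_smul, neg_smul]; abel
  have f2 : s - (2 * (-1 : k)) • u - ((-1 : k) ^ 2) • v = s + (2 : k) • u + (-1 : k) • v := by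
    rw [mul_neg, mul_one, neg_smul, neg_smul]; simp [sub_eq_add_neg]
  rw [f1] at k1
  rw [f2] at k2
  have k3 := RV_sub k1 k2 (prod _ _ _ _) (prod _ _ _ _)
  have f3 : s + (-2 : k) • u + (-1 : k) • v - (s + (2 : k) • u + (-1 : k) • v) = (-4 : k) • u := by
    have : (-4 : k) • u = (-2 : k) • u - (2 : k) • u := by rw [← sub_smul]; norm_num
    rw [this]; abel
  rw [f3] at k3
  have h4 : (-4 : k) ≠ 0 := by
    have : (-4 : k) = -(2 * 2) := by norm_num
    rw [this]; exact neg_ne_zero.2 (mul_ne_zero h2 h2)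
  have k4 : RV G u := by
    have := RV_smul k3 (-4 : k)⁻¹
    rwa [smul_smul, inv_mul_cancel₀ h4, one_smul] at this
  apply MRV_eq_zero_of_lt hs k4
  by_contra hlt
  push Not at hlt
  have hle : LinearMap.range u ≤ LinearMap.range s := by
    rintro _ ⟨w, rfl⟩
    exact ⟨r (s w), rfl⟩
  have heq : LinearMap.range u = LinearMap.range s := Submodule.eq_of_le_of_finrank_le hle hlt
  apply hs.2.1
  ext w
  rw [LinearMap.zero_apply]
  have h1 : s w ∈ LinearMap.range u := by rw [heq]; exact ⟨w, rfl⟩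
  obtain ⟨w1, hw1⟩ := h1
  have h3 : s w1 ∈ LinearMap.range u := by rw [heq]; exact ⟨w1, rfl⟩
  obtain ⟨w2, hw2⟩ := h3
  have e1 : u w1 = s (r (s w1)) := rfl
  have e2 : s w1 = s (r (s w2)) := hw2.symm
  have e3 : s w = (s * r * s * r * s) w2 := by
    rw [← hw1, e1, e2]; rfl
  rw [e3, h5, LinearMap.zero_apply]

theorem T1_z [FiniteDimensional k M] (hk : ringChar k ≠ 2) (n : ℕ) : ∀ {s r : M →ₗ[k] M}, MRV G s → RV G r →
    (s * r + r * s) ^ n = 0 → s * r * s = 0 := by
  induction n using Nat.strong_induction_on with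
  | _ n ih =>
    intro s r hs hr hn
    have hss := hs.1.1
    have hrr := hr.1
    rcases Nat.lt_or_ge n 2 with h | h
    · -- n = 0 or 1 : z = 0
      have hz : s * r + r * s = 0 := by
        interval_cases n
        · rw [pow_zero] at hn
          calc s * r + r * s = (s * r + r * s) * 1 := by rw [mul_one]
            _ = 0 := by rw [hn, mul_zero]
        · rwa [pow_one] at hn
      calc s * r * s = (s * r + r * s) * s - r * (s * s) := by noncomm_ring
        _ = 0 := by rw [hz, hss]; simp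
    · have hs' : MRV G (cj (tv r hr.1) s) := MRV_cj hs (RV_mem_one hr)
      have hz := z_conj hss hrr
      rw [← cj_tv r hr.1 s] at hz
      have h3 := ih ((n + 1) / 2) (by omega) hs hs'.1 (by
        rw [hz, neg_pow, ← pow_mul]
        have : (s * r + r * s) ^ (2 * ((n + 1) / 2)) = (s * r + r * s) ^ n * (s * r + r * s) ^ (2 * ((n + 1) / 2) - n) := by
          rw [← pow_add]; congr 1; omega
        rw [this, hn]; simp)
      rw [cj_tv, sss_conj hss, neg_eq_zero] at h3
      exact T1_aux hk hs hr h3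

/-- **T1**: `s` minimal, `r` a root vector, `s r` nilpotent implies `s r s = 0`. -/
theorem T1' [FiniteDimensional k M] (hk : ringChar k ≠ 2) {s r : M →ₗ[k] M} (hs : MRV G s) (hr : RV G r)
    (hn : IsNilpotent (s * r)) : s * r * s = 0 := by
  obtain ⟨n, hn⟩ := nilpotent_z_of_nilpotent_mul hs.1.1 hr.1 hn
  exact T1_z hk n hs hr hn

/-- **T1** in terms of `H740.QIn`, `H740.IsMin`. -/
theorem T1 [FiniteDimensional k M] (hk2 : ringChar k ≠ 2) {s r : M →ₗ[k] M} (hs : H740.IsMin G s)
    (hr : H740.QIn G r) (hn : IsNilpotent (s * r)) : s * r * s = 0 :=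
  T1' hk2 hs hr hn

end Cfsg.Agent.H731
end

-- part: H731/QuadL1
section
set_option autoImplicit false
open Cfsg

namespace Cfsg.Agent.H731

section defs

variable {R : Type*} [CommRing R]

/-- lower unitriangular matrix over a commutative ring -/
def loR (c : R) : Matrix.SpecialLinearGroup (Fin 2) R := ⟨!![1, 0; c, 1], by simp [Matrix.det_fin_two_of]⟩

/-- upper unitriangular matrix over a commutative ring -/
def upR (c : R) : Matrix.SpecialLinearGroup (Fin 2) R := ⟨!![1, c; 0, 1], by simp [Matrix.det_fin_two_of]⟩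

theorem slR_ext {g h : Matrix.SpecialLinearGroup (Fin 2) R}
    (h00 : (g : Matrix (Fin 2) (Fin 2) R) 0 0 = (h : Matrix (Fin 2) (Fin 2) R) 0 0)
    (h01 : (g : Matrix (Fin 2) (Fin 2) R) 0 1 = (h : Matrix (Fin 2) (Fin 2) R) 0 1)
    (h10 : (g : Matrix (Fin 2) (Fin 2) R) 1 0 = (h : Matrix (Fin 2) (Fin 2) R) 1 0)
    (h11 : (g : Matrix (Fin 2) (Fin 2) R) 1 1 = (h : Matrix (Fin 2) (Fin 2) R) 1 1) : g = h := by
  apply Matrix.SpecialLinearGroup.ext
  intro i j
  fin_cases i <;> fin_cases j <;> assumption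

theorem slR_mul (g h : Matrix.SpecialLinearGroup (Fin 2) R) (i j : Fin 2) :
    ((g * h : Matrix.SpecialLinearGroup (Fin 2) R) : Matrix (Fin 2) (Fin 2) R) i j =
      (g : Matrix (Fin 2) (Fin 2) R) i 0 * (h : Matrix (Fin 2) (Fin 2) R) 0 j +
      (g : Matrix (Fin 2) (Fin 2) R) i 1 * (h : Matrix (Fin 2) (Fin 2) R) 1 j := by
  change ((g : Matrix (Fin 2) (Fin 2) R) * (h : Matrix (Fin 2) (Fin 2) R)) i j = _
  rw [Matrix.mul_apply, Fin.sum_univ_two]

theorem slR_det (g : Matrix.SpecialLinearGroup (Fin 2) R) :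
    (g : Matrix (Fin 2) (Fin 2) R) 0 0 * (g : Matrix (Fin 2) (Fin 2) R) 1 1
        - (g : Matrix (Fin 2) (Fin 2) R) 0 1 * (g : Matrix (Fin 2) (Fin 2) R) 1 0 = 1 := by
  have := Matrix.SpecialLinearGroup.det_coe g
  rwa [Matrix.det_fin_two] at this

theorem slR_inv00 (g : Matrix.SpecialLinearGroup (Fin 2) R) :
    ((g⁻¹ : Matrix.SpecialLinearGroup (Fin 2) R) : Matrix (Fin 2) (Fin 2) R) 0 0 = (g : Matrix (Fin 2) (Fin 2) R) 1 1 := by
  rw [Matrix.SpecialLinearGroup.coe_inv, Matrix.adjugate_fin_two]; rfl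
theorem slR_inv01 (g : Matrix.SpecialLinearGroup (Fin 2) R) :
    ((g⁻¹ : Matrix.SpecialLinearGroup (Fin 2) R) : Matrix (Fin 2) (Fin 2) R) 0 1 = -(g : Matrix (Fin 2) (Fin 2) R) 0 1 := by
  rw [Matrix.SpecialLinearGroup.coe_inv, Matrix.adjugate_fin_two]; rfl
theorem slR_inv10 (g : Matrix.SpecialLinearGroup (Fin 2) R) :
    ((g⁻¹ : Matrix.SpecialLinearGroup (Fin 2) R) : Matrix (Fin 2) (Fin 2) R) 1 0 = -(g : Matrix (Fin 2) (Fin 2) R) 1 0 := by
  rw [Matrix.SpecialLinearGroup.coe_inv, Matrix.adjugate_fin_two]; rfl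
theorem slR_inv11 (g : Matrix.SpecialLinearGroup (Fin 2) R) :
    ((g⁻¹ : Matrix.SpecialLinearGroup (Fin 2) R) : Matrix (Fin 2) (Fin 2) R) 1 1 = (g : Matrix (Fin 2) (Fin 2) R) 0 0 := by
  rw [Matrix.SpecialLinearGroup.coe_inv, Matrix.adjugate_fin_two]; rfl

theorem loR_00 (c : R) : (loR c : Matrix (Fin 2) (Fin 2) R) 0 0 = 1 := rfl
theorem loR_01 (c : R) : (loR c : Matrix (Fin 2) (Fin 2) R) 0 1 = 0 := rfl
theorem loR_10 (c : R) : (loR c : Matrix (Fin 2) (Fin 2) R) 1 0 = c := rfl
theorem loR_11 (c : R) : (loR c : Matrix (Fin 2) (Fin 2) R) 1 1 = 1 := rfl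
theorem upR_00 (c : R) : (upR c : Matrix (Fin 2) (Fin 2) R) 0 0 = 1 := rfl
theorem upR_01 (c : R) : (upR c : Matrix (Fin 2) (Fin 2) R) 0 1 = c := rfl
theorem upR_10 (c : R) : (upR c : Matrix (Fin 2) (Fin 2) R) 1 0 = 0 := rfl
theorem upR_11 (c : R) : (upR c : Matrix (Fin 2) (Fin 2) R) 1 1 = 1 := rfl
theorem oneR_00 : ((1 : Matrix.SpecialLinearGroup (Fin 2) R) : Matrix (Fin 2) (Fin 2) R) 0 0 = 1 := by
  rw [Matrix.SpecialLinearGroup.coe_one]; simp
theorem oneR_01 : ((1 : Matrix.SpecialLinearGroup (Fin 2) R) : Matrix (Fin 2) (Fin 2) R) 0 1 = 0 := by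
  rw [Matrix.SpecialLinearGroup.coe_one]; simp
theorem oneR_10 : ((1 : Matrix.SpecialLinearGroup (Fin 2) R) : Matrix (Fin 2) (Fin 2) R) 1 0 = 0 := by
  rw [Matrix.SpecialLinearGroup.coe_one]; simp
theorem oneR_11 : ((1 : Matrix.SpecialLinearGroup (Fin 2) R) : Matrix (Fin 2) (Fin 2) R) 1 1 = 1 := by
  rw [Matrix.SpecialLinearGroup.coe_one]; simp

theorem loR_add (c d : R) : loR (c + d) = loR c * loR d := by
  apply slR_ext <;> simp only [slR_mul, loR_00, loR_01, loR_10, loR_11] <;> ring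

theorem upR_add (c d : R) : upR (c + d) = upR c * upR d := by
  apply slR_ext <;> simp only [slR_mul, upR_00, upR_01, upR_10, upR_11] <;> ring

theorem loR_zero : loR (0 : R) = 1 := by
  apply slR_ext <;> simp only [loR_00, loR_01, loR_10, loR_11, oneR_00, oneR_01, oneR_10, oneR_11]

theorem upR_zero : upR (0 : R) = 1 := by
  apply slR_ext <;> simp only [upR_00, upR_01, upR_10, upR_11, oneR_00, oneR_01, oneR_10, oneR_11]

theorem loR_neg (c : R) : loR (-c) = (loR c)⁻¹ := by
  rw [eq_inv_iff_mul_eq_one, ← loR_add, neg_add_cancel, loR_zero]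

theorem upR_neg (c : R) : upR (-c) = (upR c)⁻¹ := by
  rw [eq_inv_iff_mul_eq_one, ← upR_add, neg_add_cancel, upR_zero]

end defs

section L1

variable {k : Type*} [Field k] {R : Type*} [CommRing R] [Algebra k R] {F : Type*} [Field F] [Algebra k F]

/-- **Lemma L1.** -/
theorem L1 (hk2 : ringChar k ≠ 2) (φ : R →ₐ[k] F) {z : R} (hz : IsUnit z)
    (hgen : Algebra.adjoin k ({z} : Set R) = ⊤) (H : Subgroup (Matrix.SpecialLinearGroup (Fin 2) R))
    (hu : ∀ c : k, upR (algebraMap k R c) ∈ H) (hl : loR z ∈ H)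
    (hlift : ∀ a : F, ∃ g ∈ H, φ ((g : Matrix (Fin 2) (Fin 2) R) 0 0) = 1 ∧ φ ((g : Matrix (Fin 2) (Fin 2) R) 0 1) = a ∧
      φ ((g : Matrix (Fin 2) (Fin 2) R) 1 0) = 0)
    (h10 : ∀ g ∈ H, (g : Matrix (Fin 2) (Fin 2) R) 1 0 = 0 ∨ IsUnit ((g : Matrix (Fin 2) (Fin 2) R) 1 0)) :
    (∀ x : R, upR x ∈ H) ∧ (∀ x : R, φ x = 0 → x = 0) ∧ (∀ x : R, loR x ∈ H) := by
  have h2k : (2 : k) ≠ 0 := Ring.two_ne_zero hk2
  have h2F : (2 : F) ≠ 0 := by
    have := (map_ne_zero (algebraMap k F)).2 h2k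
    rwa [map_ofNat] at this
  have h2R : IsUnit (2 : R) := by
    have := (IsUnit.mk0 _ h2k).map (algebraMap k R)
    rwa [map_ofNat] at this
  have hφu : ∀ x : R, IsUnit x → φ x ≠ 0 := fun x hx => (hx.map φ).ne_zero
  have hzF : φ z ≠ 0 := hφu z hz
  -- entries that vanish in F vanish
  have h10' : ∀ g ∈ H, φ ((g : Matrix (Fin 2) (Fin 2) R) 1 0) = 0 → (g : Matrix (Fin 2) (Fin 2) R) 1 0 = 0 := by
    intro g hg h0
    rcases h10 g hg with h | h
    · exact h
    · exact absurd h0 (hφu _ h)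
  have U_add : ∀ x y : R, upR x ∈ H → upR y ∈ H → upR (x + y) ∈ H := fun x y hx hy => by
    rw [upR_add]; exact H.mul_mem hx hy
  have U_neg : ∀ x : R, upR x ∈ H → upR (-x) ∈ H := fun x hx => by
    rw [upR_neg]; exact H.inv_mem hx
  have U_sub : ∀ x y : R, upR x ∈ H → upR y ∈ H → upR (x - y) ∈ H := fun x y hx hy => by
    rw [sub_eq_add_neg]; exact U_add _ _ hx (U_neg _ hy)
  have U_one : upR (1 : R) ∈ H := by
    have := hu 1; rwa [map_one] at this
  have U_zero : upR (0 : R) ∈ H := by rw [upR_zero]; exact H.one_mem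
  -- (a)
  have stepA : ∀ x : R, upR x ∈ H → φ x = 0 → x = 0 := by
    intro x hx h0
    have hm : loR z * upR x * (loR z)⁻¹ ∈ H := H.mul_mem (H.mul_mem hl hx) (H.inv_mem hl)
    have e : ((loR z * upR x * (loR z)⁻¹ : Matrix.SpecialLinearGroup (Fin 2) R) : Matrix (Fin 2) (Fin 2) R) 1 0 =
        -(z ^ 2 * x) := by
      rw [← loR_neg]
      simp only [slR_mul, loR_00, loR_01, loR_10, loR_11, upR_00, upR_01, upR_10, upR_11]
      ring
    have h1 := h10' _ hm (by rw [e, map_neg, map_mul, h0, mul_zero, neg_zero])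
    rw [e, neg_eq_zero] at h1
    exact (hz.pow 2).mul_right_eq_zero.1 h1
  -- (b)
  have stepB : ∀ a : F, ∃ x : R, upR x ∈ H ∧ φ x = a := by
    intro a
    obtain ⟨g, hg, g00, g01, g10⟩ := hlift (a / 2)
    have e10 := h10' g hg g10
    have hdet := slR_det g
    set y := (g : Matrix (Fin 2) (Fin 2) R) 0 0 with hy
    set b := (g : Matrix (Fin 2) (Fin 2) R) 0 1 with hb
    set y' := (g : Matrix (Fin 2) (Fin 2) R) 1 1 with hy'
    rw [e10, mul_zero, sub_zero] at hdet
    have e1 : g * upR 1 * g⁻¹ = upR (y ^ 2) := by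
      apply slR_ext <;> simp only [slR_mul, slR_inv00, slR_inv01, slR_inv10, slR_inv11, upR_00, upR_01, upR_10, upR_11,
        e10, ← hy, ← hb, ← hy']
      · linear_combination hdet
      · ring
      · ring
      · linear_combination hdet
    have m1 : upR (y ^ 2 - 1) ∈ H := by
      apply U_sub _ _ _ U_one
      rw [← e1]; exact H.mul_mem (H.mul_mem hg U_one) (H.inv_mem hg)
    have h1 := stepA _ m1 (by rw [map_sub, map_pow, g00]; simp)
    have hyy : y * y = 1 := by linear_combination h1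
    have hyy' : y' = y := by
      calc y' = (y * y) * y' := by rw [hyy, one_mul]
        _ = y * (y * y') := by ring
        _ = y := by rw [hdet, mul_one]
    have e2 : g * g = upR (2 * y * b) := by
      apply slR_ext <;> simp only [slR_mul, upR_00, upR_01, upR_10, upR_11, e10, ← hy, ← hb, ← hy', hyy']
      · linear_combination hyy
      · ring
      · ring
      · linear_combination hyy
    refine ⟨2 * y * b, by rw [← e2]; exact H.mul_mem hg hg, ?_⟩
    rw [map_mul, map_mul, g00, g01, map_ofNat]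
    field_simp
  -- (c)
  have stepC : ∀ x w : R, upR x ∈ H → loR w ∈ H → φ x * φ w = -1 → x * w = -1 := by
    intro x w hx hw hxw
    have hm : (upR x * loR w * upR x) * (upR x * loR w * upR x) ∈ H :=
      H.mul_mem (H.mul_mem (H.mul_mem hx hw) hx) (H.mul_mem (H.mul_mem hx hw) hx)
    have e : (((upR x * loR w * upR x) * (upR x * loR w * upR x) : Matrix.SpecialLinearGroup (Fin 2) R) :
        Matrix (Fin 2) (Fin 2) R) 1 0 = 2 * w * (1 + x * w) := by
      simp only [slR_mul, loR_00, loR_01, loR_10, loR_11, upR_00, upR_01, upR_10, upR_11]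
      ring
    have h1 := h10' _ hm (by rw [e, map_mul, map_add, map_mul φ x w, map_one, hxw]; ring)
    rw [e] at h1
    have hwu : IsUnit w := by
      rcases h10 _ hw with h | h
      · rw [loR_10] at h
        rw [h, map_zero, mul_zero] at hxw
        have : (0 : F) ≠ -1 := by
          intro h3; apply one_ne_zero (α := F); rw [eq_comm, neg_eq_zero] at h3; exact h3
        exact absurd hxw this
      · exact h
    have h3 := (h2R.mul hwu).mul_right_eq_zero.1 h1
    linear_combination h3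
  obtain ⟨x₀, hx₀, hx₀'⟩ := stepB (-(φ z)⁻¹)
  have hx₀z : x₀ * z = -1 := stepC x₀ z hx₀ hl (by rw [hx₀']; field_simp)
  -- the element n₁
  set n₁ := upR x₀ * loR z * upR x₀ with hn₁
  have hn₁H : n₁ ∈ H := H.mul_mem (H.mul_mem hx₀ hl) hx₀
  have n00 : (n₁ : Matrix (Fin 2) (Fin 2) R) 0 0 = 0 := by
    rw [hn₁]; simp only [slR_mul, loR_00, loR_01, loR_10, loR_11, upR_00, upR_01, upR_10, upR_11]
    linear_combination hx₀z
  have n01 : (n₁ : Matrix (Fin 2) (Fin 2) R) 0 1 = x₀ := by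
    rw [hn₁]; simp only [slR_mul, loR_00, loR_01, loR_10, loR_11, upR_00, upR_01, upR_10, upR_11]
    linear_combination x₀ * hx₀z
  have n10 : (n₁ : Matrix (Fin 2) (Fin 2) R) 1 0 = z := by
    rw [hn₁]; simp only [slR_mul, loR_00, loR_01, loR_10, loR_11, upR_00, upR_01, upR_10, upR_11]
    ring
  have n11 : (n₁ : Matrix (Fin 2) (Fin 2) R) 1 1 = 0 := by
    rw [hn₁]; simp only [slR_mul, loR_00, loR_01, loR_10, loR_11, upR_00, upR_01, upR_10, upR_11]
    linear_combination hx₀z
  -- (d)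
  have stepD : ∀ y : R, upR y ∈ H → loR (-(z ^ 2 * y)) ∈ H := by
    intro y hy
    have e : n₁ * upR y * n₁⁻¹ = loR (-(z ^ 2 * y)) := by
      apply slR_ext <;> simp only [slR_mul, slR_inv00, slR_inv01, slR_inv10, slR_inv11, loR_00, loR_01, loR_10, loR_11,
        upR_00, upR_01, upR_10, upR_11, n00, n01, n10, n11]
      · linear_combination -hx₀z
      · ring
      · ring
      · linear_combination -hx₀z
    rw [← e]; exact H.mul_mem (H.mul_mem hn₁H hy) (H.inv_mem hn₁H)
  -- (e)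
  have stepN : ∀ y : R, upR y ∈ H → φ y ≠ 0 → ∃ w : R, y * w = -1 ∧ loR w ∈ H := by
    intro y hy hy0
    obtain ⟨y', hy', hy''⟩ := stepB ((φ z ^ 2)⁻¹ * (φ y)⁻¹)
    refine ⟨-(z ^ 2 * y'), ?_, stepD _ hy'⟩
    apply stepC _ _ hy (stepD _ hy')
    rw [map_neg, map_mul, map_pow, hy'']
    field_simp
  have stepE : ∀ y v : R, upR y ∈ H → upR v ∈ H → upR (y ^ 2 * v) ∈ H := by
    intro y v hy hv
    by_cases hy0 : φ y = 0
    · have := stepA y hy hy0
      rw [this]; simpa using U_zero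
    · obtain ⟨w, hyw, hw⟩ := stepN y hy hy0
      obtain ⟨w1, hyw1, hw1⟩ := stepN 1 U_one (by rw [map_one]; exact one_ne_zero)
      rw [one_mul] at hyw1
      subst hyw1
      have hd : (upR y * loR w * upR y) * (upR 1 * loR (-1) * upR 1)⁻¹ ∈ H :=
        H.mul_mem (H.mul_mem (H.mul_mem hy hw) hy) (H.inv_mem (H.mul_mem (H.mul_mem U_one hw1) U_one))
      set D := (upR y * loR w * upR y) * (upR 1 * loR (-1) * upR 1)⁻¹ with hD
      have e1 : (upR 1 * loR (-1) * upR 1 : Matrix.SpecialLinearGroup (Fin 2) R)⁻¹ = upR (-1) * loR 1 * upR (-1) := by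
        rw [mul_inv_rev, mul_inv_rev, ← upR_neg, ← loR_neg, neg_neg, mul_assoc]
      have d00 : (D : Matrix (Fin 2) (Fin 2) R) 0 0 = y := by
        rw [hD, e1]
        simp only [slR_mul, loR_00, loR_01, loR_10, loR_11, upR_00, upR_01, upR_10, upR_11]
        linear_combination y * hyw
      have d01 : (D : Matrix (Fin 2) (Fin 2) R) 0 1 = 0 := by
        rw [hD, e1]
        simp only [slR_mul, loR_00, loR_01, loR_10, loR_11, upR_00, upR_01, upR_10, upR_11]
        linear_combination -hyw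
      have d10 : (D : Matrix (Fin 2) (Fin 2) R) 1 0 = 0 := by
        rw [hD, e1]
        simp only [slR_mul, loR_00, loR_01, loR_10, loR_11, upR_00, upR_01, upR_10, upR_11]
        linear_combination hyw
      have d11 : (D : Matrix (Fin 2) (Fin 2) R) 1 1 = -w := by
        rw [hD, e1]
        simp only [slR_mul, loR_00, loR_01, loR_10, loR_11, upR_00, upR_01, upR_10, upR_11]
        ring
      have e : D * upR v * D⁻¹ = upR (y ^ 2 * v) := by
        apply slR_ext <;> simp only [slR_mul, slR_inv00, slR_inv01, slR_inv10, slR_inv11,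
          upR_00, upR_01, upR_10, upR_11, d00, d01, d10, d11]
        · linear_combination -hyw
        · ring
        · ring
        · linear_combination -hyw
      rw [← e]; exact H.mul_mem (H.mul_mem hd hv) (H.inv_mem hd)
  -- (f)
  have stepF : ∀ y v : R, upR y ∈ H → upR v ∈ H → upR (y * v) ∈ H := by
    have h2 : ∀ y v : R, upR y ∈ H → upR v ∈ H → upR (2 * y * v) ∈ H := by
      intro y v hy hv
      have := U_sub _ _ (U_sub _ _ (stepE (y + 1) v (U_add _ _ hy U_one) hv) (stepE y v hy hv)) hv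
      have e : (y + 1) ^ 2 * v - y ^ 2 * v - v = 2 * y * v := by ring
      rwa [e] at this
    intro y v hy hv
    have h3 := h2 _ _ (hu (1 / 4)) (h2 y v hy hv)
    have e : 2 * algebraMap k R (1 / 4) * (2 * y * v) = y * v := by
      have h4 : algebraMap k R (1 / 4) * 4 = 1 := by
        have h5 : (4 : R) = algebraMap k R 4 := by rw [map_ofNat]
        rw [h5, ← map_mul]
        have h6 : (4 : k) ≠ 0 := by
          have : (4 : k) = 2 * 2 := by norm_num
          rw [this]; exact mul_ne_zero h2k h2k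
        rw [one_div, inv_mul_cancel₀ h6, map_one]
      linear_combination (y * v) * h4
    rwa [e] at h3
  -- (g)
  have hzU : upR z ∈ H := by
    obtain ⟨v, hv, hv'⟩ := stepB (φ z)
    have h1 : upR (x₀ * v + 1) ∈ H := U_add _ _ (stepF _ _ hx₀ hv) U_one
    have h3 := stepA _ h1 (by rw [map_add, map_mul, hv', hx₀', map_one]; field_simp; ring)
    have h4 : v = z := by linear_combination (-z) * h3 + v * hx₀z
    rw [← h4]; exact hv
  have hall : ∀ x : R, upR x ∈ H := by
    intro x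
    have hx : x ∈ Algebra.adjoin k ({z} : Set R) := by rw [hgen]; exact Algebra.mem_top
    induction hx using Algebra.adjoin_induction with
    | mem x hx => rw [Set.mem_singleton_iff.1 hx]; exact hzU
    | algebraMap c => exact hu c
    | add x y _ _ hx hy => exact U_add _ _ hx hy
    | mul x y _ _ hx hy => exact stepF _ _ hx hy
  refine ⟨hall, fun x hx => stepA x (hall x) hx, fun x => ?_⟩
  have h1 := stepD (-(x₀ ^ 2 * x)) (hall _)
  have e : -(z ^ 2 * -(x₀ ^ 2 * x)) = x := by linear_combination (x * (x₀ * z - 1)) * hx₀z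
  rwa [e] at h1

end L1

end Cfsg.Agent.H731
end

-- part: H731/QuadWords
section
set_option autoImplicit false
open Cfsg Polynomial

namespace Cfsg.Agent.H731

section ringfacts

variable {E : Type*} [Ring E] {s r : E}

theorem word_mul (hs : s * s = 0) (hr : r * r = 0) {A B C D A' B' C' D' : E}
    (sA : s * A' = A' * s) (sB : s * B' = B' * s) (sC : s * C' = C' * s) (sD : s * D' = D' * s)
    (rA : r * A' = A' * r) (rB : r * B' = B' * r) (rC : r * C' = C' * r) (rD : r * D' = D' * r) :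
    (1 + A * (s * r) + B * s + C * r + D * (r * s)) * (1 + A' * (s * r) + B' * s + C' * r + D' * (r * s)) =
      1 + (A + A' + A * A' * (s * r + r * s) + B * C') * (s * r) + (B + B' + A * B' * (s * r + r * s) +
        B * D' * (s * r + r * s)) * s + (C + C' + C * A' * (s * r + r * s) + D * C' * (s * r + r * s)) * r +
        (D + D' + C * B' + D * D' * (s * r + r * s)) * (r * s) := by
  have ss : ∀ x, s * (s * x) = 0 := fun x => by rw [← mul_assoc, hs, zero_mul]
  have rr : ∀ x, r * (r * x) = 0 := fun x => by rw [← mul_assoc, hr, zero_mul]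
  have sA' : ∀ x, s * (A' * x) = A' * (s * x) := fun x => by rw [← mul_assoc, sA, mul_assoc]
  have sB' : ∀ x, s * (B' * x) = B' * (s * x) := fun x => by rw [← mul_assoc, sB, mul_assoc]
  have sC' : ∀ x, s * (C' * x) = C' * (s * x) := fun x => by rw [← mul_assoc, sC, mul_assoc]
  have sD' : ∀ x, s * (D' * x) = D' * (s * x) := fun x => by rw [← mul_assoc, sD, mul_assoc]
  have rA' : ∀ x, r * (A' * x) = A' * (r * x) := fun x => by rw [← mul_assoc, rA, mul_assoc]
  have rB' : ∀ x, r * (B' * x) = B' * (r * x) := fun x => by rw [← mul_assoc, rB, mul_assoc]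
  have rC' : ∀ x, r * (C' * x) = C' * (r * x) := fun x => by rw [← mul_assoc, rC, mul_assoc]
  have rD' : ∀ x, r * (D' * x) = D' * (r * x) := fun x => by rw [← mul_assoc, rD, mul_assoc]
  simp only [mul_add, add_mul, mul_assoc, one_mul, mul_one, hs, hr, ss, rr, sA', sB', sC', sD', rA', rB', rC', rD',
    mul_zero, add_zero, zero_add]
  abel

/-- conjugating `s` by a word -/
theorem word_conj_s (hs : s * s = 0) (hr : r * r = 0) {A B C D B' C' P : E}
    (sA : s * A = A * s) (sC : s * C = C * s) (sD : s * D = D * s) (sB' : s * B' = B' * s) (sC' : s * C' = C' * s)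
    (rA : r * A = A * r) (rC : r * C = C * r) (rD : r * D = D * r) (rB' : r * B' = B' * r) (rC' : r * C' = C' * r)
    (AC : A * C = C * A)
    (hP : P = 1 + A * (s * r + r * s)) (hC' : C' = -C) :
    (1 + A * (s * r) + B * s + C * r + D * (r * s)) * s * (1 + D * (s * r) + B' * s + C' * r + A * (r * s)) =
      P * P * s + P * C * (r * s - s * r) - C * C * (s * r + r * s) * r := by
  subst hC'
  subst hP
  have ss : ∀ x, s * (s * x) = 0 := fun x => by rw [← mul_assoc, hs, zero_mul]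
  have rr : ∀ x, r * (r * x) = 0 := fun x => by rw [← mul_assoc, hr, zero_mul]
  have sA2 : ∀ x, s * (A * x) = A * (s * x) := fun x => by rw [← mul_assoc, sA, mul_assoc]
  have sC2 : ∀ x, s * (C * x) = C * (s * x) := fun x => by rw [← mul_assoc, sC, mul_assoc]
  have sD2 : ∀ x, s * (D * x) = D * (s * x) := fun x => by rw [← mul_assoc, sD, mul_assoc]
  have sB2 : ∀ x, s * (B' * x) = B' * (s * x) := fun x => by rw [← mul_assoc, sB', mul_assoc]
  have rA2 : ∀ x, r * (A * x) = A * (r * x) := fun x => by rw [← mul_assoc, rA, mul_assoc]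
  have rC2 : ∀ x, r * (C * x) = C * (r * x) := fun x => by rw [← mul_assoc, rC, mul_assoc]
  have rD2 : ∀ x, r * (D * x) = D * (r * x) := fun x => by rw [← mul_assoc, rD, mul_assoc]
  have rB2 : ∀ x, r * (B' * x) = B' * (r * x) := fun x => by rw [← mul_assoc, rB', mul_assoc]
  have AC2 : ∀ x, A * (C * x) = C * (A * x) := fun x => by rw [← mul_assoc, AC, mul_assoc]
  simp only [mul_add, add_mul, mul_sub, sub_mul, mul_assoc, one_mul, mul_one, hs, hr, ss, rr, sA2, sB2, sC2, sD2,
    rA2, rB2, rC2, rD2, AC2, mul_neg, neg_mul,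
    mul_zero, add_zero, zero_add, sub_zero, zero_sub, neg_zero]
  abel

end ringfacts

variable {k : Type*} [Field k] {M : Type*} [AddCommGroup M] [Module k M]

/-- `z = s r + r s`. -/
def zz (s r : M →ₗ[k] M) : M →ₗ[k] M := s * r + r * s

/-- Evaluation of polynomials at `z`. -/
noncomputable def ev (s r : M →ₗ[k] M) : k[X] →ₐ[k] Module.End k M := Polynomial.aeval (R := k) (A := Module.End k M) (zz s r)

theorem ev_X (s r : M →ₗ[k] M) : ev s r X = zz s r := by unfold ev; rw [aeval_X]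

theorem ev_C (s r : M →ₗ[k] M) (c : k) : ev s r (C c) = c • (1 : Module.End k M) := by
  unfold ev; rw [aeval_C, Algebra.algebraMap_eq_smul_one]

theorem commute_aeval {z y : Module.End k M} (h : Commute y z) (p : k[X]) : Commute y (aeval z p) := by
  induction p using Polynomial.induction_on' with
  | add p q hp hq => rw [map_add]; exact hp.add_right hq
  | monomial n a =>
    rw [aeval_monomial]
    exact (Algebra.commute_algebraMap_right a y).mul_right (h.pow_right n)

theorem s_zz {s r : M →ₗ[k] M} (hs : s * s = 0) : s * zz s r = zz s r * s := by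
  unfold zz
  calc s * (s * r + r * s) = (s * s) * r + s * r * s := by noncomm_ring
    _ = s * r * s + r * (s * s) := by rw [hs]; simp
    _ = _ := by noncomm_ring

theorem r_zz {s r : M →ₗ[k] M} (hr : r * r = 0) : r * zz s r = zz s r * r := by
  unfold zz
  calc r * (s * r + r * s) = (r * r) * s + r * s * r := by noncomm_ring
    _ = r * s * r + s * (r * r) := by rw [hr]; simp
    _ = _ := by noncomm_ring

theorem s_ev {s r : M →ₗ[k] M} (hs : s * s = 0) (p : k[X]) : s * ev s r p = ev s r p * s :=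
  commute_aeval (y := s) (z := zz s r) (s_zz hs) p

theorem r_ev {s r : M →ₗ[k] M} (hr : r * r = 0) (p : k[X]) : r * ev s r p = ev s r p * r :=
  commute_aeval (y := r) (z := zz s r) (r_zz hr) p

theorem ev_comm (s r : M →ₗ[k] M) (p q : k[X]) : ev s r p * ev s r q = ev s r q * ev s r p := by
  rw [← map_mul, ← map_mul, mul_comm]

theorem zz_swap (s r : M →ₗ[k] M) : zz r s = zz s r := by unfold zz; rw [add_comm]

theorem ev_swap (s r : M →ₗ[k] M) : ev r s = ev s r := by unfold ev; rw [zz_swap]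

/-- `x = (matrix, element of GL(M))` is a word with parameters `a b c d`. -/
def Wd (s r : M →ₗ[k] M) (x : Matrix.SpecialLinearGroup (Fin 2) k[X] × LinearMap.GeneralLinearGroup k M)
    (a b c d : k[X]) : Prop :=
  (x.1 : Matrix (Fin 2) (Fin 2) k[X]) 0 0 = 1 + a * X ∧ (x.1 : Matrix (Fin 2) (Fin 2) k[X]) 0 1 = b ∧
  (x.1 : Matrix (Fin 2) (Fin 2) k[X]) 1 0 = c * X ∧ (x.1 : Matrix (Fin 2) (Fin 2) k[X]) 1 1 = 1 + d * X ∧
  (x.2 : M →ₗ[k] M) = 1 + ev s r a * (s * r) + ev s r b * s + ev s r c * r + ev s r d * (r * s)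

theorem Wd_one (s r : M →ₗ[k] M) : Wd s r 1 0 0 0 0 := by
  refine ⟨?_, ?_, ?_, ?_, ?_⟩
  · rw [Prod.fst_one, oneR_00]; ring
  · rw [Prod.fst_one, oneR_01]
  · rw [Prod.fst_one, oneR_10]; ring
  · rw [Prod.fst_one, oneR_11]; ring
  · rw [Prod.snd_one, Units.val_one, map_zero]; simp

theorem Wd_mul {s r : M →ₗ[k] M} (hs : s * s = 0) (hr : r * r = 0)
    {x y : Matrix.SpecialLinearGroup (Fin 2) k[X] × LinearMap.GeneralLinearGroup k M} {a b c d a' b' c' d' : k[X]}
    (hx : Wd s r x a b c d) (hy : Wd s r y a' b' c' d') :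
    Wd s r (x * y) (a + a' + a * a' * X + b * c') (b + b' + a * b' * X + b * d' * X)
      (c + c' + c * a' * X + d * c' * X) (d + d' + c * b' + d * d' * X) := by
  obtain ⟨x1, x2, x3, x4, x5⟩ := hx
  obtain ⟨y1, y2, y3, y4, y5⟩ := hy
  refine ⟨?_, ?_, ?_, ?_, ?_⟩
  · rw [Prod.fst_mul, slR_mul, x1, x2, y1, y3]; ring
  · rw [Prod.fst_mul, slR_mul, x1, x2, y2, y4]; ring
  · rw [Prod.fst_mul, slR_mul, x3, x4, y1, y3]; ring
  · rw [Prod.fst_mul, slR_mul, x3, x4, y2, y4]; ring
  · rw [Prod.snd_mul, Units.val_mul, x5, y5, word_mul hs hr (s_ev hs _) (s_ev hs _) (s_ev hs _) (s_ev hs _)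
      (r_ev hr _) (r_ev hr _) (r_ev hr _) (r_ev hr _)]
    simp only [map_add, map_mul, ev_X, zz]

theorem Wd_inv {s r : M →ₗ[k] M} (hs : s * s = 0) (hr : r * r = 0)
    {x : Matrix.SpecialLinearGroup (Fin 2) k[X] × LinearMap.GeneralLinearGroup k M} {a b c d : k[X]}
    (hx : Wd s r x a b c d) : Wd s r x⁻¹ d (-b) (-c) a := by
  have hx' := hx
  obtain ⟨x1, x2, x3, x4, x5⟩ := hx'
  have hdet := slR_det x.1
  rw [x1, x2, x3, x4] at hdet
  have hd : a + d + a * d * X - b * c = 0 := by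
    have h1 : (a + d + a * d * X - b * c) * X = 0 := by linear_combination hdet
    exact (mul_eq_zero.1 h1).resolve_right X_ne_zero
  refine ⟨?_, ?_, ?_, ?_, ?_⟩
  · rw [Prod.fst_inv, slR_inv00, x4]
  · rw [Prod.fst_inv, slR_inv01, x2]
  · rw [Prod.fst_inv, slR_inv10, x3]; ring
  · rw [Prod.fst_inv, slR_inv11, x1]
  · rw [Prod.snd_inv]
    have h1 : (x.2 : M →ₗ[k] M) * (1 + ev s r d * (s * r) + ev s r (-b) * s + ev s r (-c) * r + ev s r a * (r * s)) = 1 := by
      rw [x5, word_mul hs hr (s_ev hs _) (s_ev hs _) (s_ev hs _) (s_ev hs _)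
        (r_ev hr _) (r_ev hr _) (r_ev hr _) (r_ev hr _)]
      have e1 : ev s r a + ev s r d + ev s r a * ev s r d * (s * r + r * s) + ev s r b * ev s r (-c) = 0 := by
        have : ev s r (a + d + a * d * X - b * c) = 0 := by rw [hd, map_zero]
        simp only [map_add, map_mul, map_sub, ev_X, zz] at this
        rw [map_neg, mul_neg, ← sub_eq_add_neg]; exact this
      have e2 : ev s r b + ev s r (-b) + ev s r a * ev s r (-b) * (s * r + r * s) +
          ev s r b * ev s r a * (s * r + r * s) = 0 := by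
        have : ev s r (b + (-b) + a * (-b) * X + b * a * X) = 0 := by
          have h0 : (b + (-b) + a * (-b) * X + b * a * X) = 0 := by ring
          rw [h0, map_zero]
        simpa only [map_add, map_mul, map_sub, ev_X, zz] using this
      have e3 : ev s r c + ev s r (-c) + ev s r c * ev s r d * (s * r + r * s) +
          ev s r d * ev s r (-c) * (s * r + r * s) = 0 := by
        have : ev s r (c + (-c) + c * d * X + d * (-c) * X) = 0 := by
          have h0 : (c + (-c) + c * d * X + d * (-c) * X) = 0 := by ring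
          rw [h0, map_zero]
        simpa only [map_add, map_mul, map_sub, ev_X, zz] using this
      have e4 : ev s r d + ev s r a + ev s r c * ev s r (-b) + ev s r d * ev s r a * (s * r + r * s) = 0 := by
        have : ev s r (d + a + c * (-b) + d * a * X) = 0 := by
          have h0 : (d + a + c * (-b) + d * a * X) = 0 := by linear_combination hd
          rw [h0, map_zero]
        simpa only [map_add, map_mul, map_sub, ev_X, zz] using this
      rw [e1, e2, e3, e4]; simp
    calc ((x.2⁻¹ : LinearMap.GeneralLinearGroup k M) : M →ₗ[k] M)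
        = ((x.2⁻¹ : LinearMap.GeneralLinearGroup k M) : M →ₗ[k] M) * ((x.2 : M →ₗ[k] M) *
          (1 + ev s r d * (s * r) + ev s r (-b) * s + ev s r (-c) * r + ev s r a * (r * s))) := by rw [h1, mul_one]
      _ = _ := by rw [← mul_assoc, Units.inv_mul, one_mul]

/-- The group of words. -/
noncomputable def TT (s r : M →ₗ[k] M) (hs : s * s = 0) (hr : r * r = 0) :
    Subgroup (Matrix.SpecialLinearGroup (Fin 2) k[X] × LinearMap.GeneralLinearGroup k M) :=
  Subgroup.closure ({x | ∃ c : k, x = (upR (C c), tv (c • s) (smul_sq hs c))} ∪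
    {x | ∃ c : k, x = (loR (C c * X), tv (c • r) (smul_sq hr c))})

theorem TT_up {s r : M →ₗ[k] M} (hs : s * s = 0) (hr : r * r = 0) (c : k) :
    (upR (C c), tv (c • s) (smul_sq hs c)) ∈ TT s r hs hr := Subgroup.subset_closure (Or.inl ⟨c, rfl⟩)

theorem TT_lo {s r : M →ₗ[k] M} (hs : s * s = 0) (hr : r * r = 0) (c : k) :
    (loR (C c * X), tv (c • r) (smul_sq hr c)) ∈ TT s r hs hr := Subgroup.subset_closure (Or.inr ⟨c, rfl⟩)

theorem Wd_up {s r : M →ₗ[k] M} (hs : s * s = 0) (c : k) :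
    Wd s r (upR (C c), tv (c • s) (smul_sq hs c)) 0 (C c) 0 0 := by
  refine ⟨?_, ?_, ?_, ?_, ?_⟩
  · change (upR (C c) : Matrix (Fin 2) (Fin 2) k[X]) 0 0 = _
    rw [upR_00]; ring
  · change (upR (C c) : Matrix (Fin 2) (Fin 2) k[X]) 0 1 = _
    rw [upR_01]
  · change (upR (C c) : Matrix (Fin 2) (Fin 2) k[X]) 1 0 = _
    rw [upR_10]; ring
  · change (upR (C c) : Matrix (Fin 2) (Fin 2) k[X]) 1 1 = _
    rw [upR_11]; ring
  · change (tv (c • s) (smul_sq hs c) : M →ₗ[k] M) = _
    rw [tv_val, map_zero, ev_C, smul_mul_assoc, one_mul]; simp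

theorem Wd_lo {s r : M →ₗ[k] M} (hr : r * r = 0) (c : k) :
    Wd s r (loR (C c * X), tv (c • r) (smul_sq hr c)) 0 0 (C c) 0 := by
  refine ⟨?_, ?_, ?_, ?_, ?_⟩
  · change (loR (C c * X) : Matrix (Fin 2) (Fin 2) k[X]) 0 0 = _
    rw [loR_00]; ring
  · change (loR (C c * X) : Matrix (Fin 2) (Fin 2) k[X]) 0 1 = _
    rw [loR_01]
  · change (loR (C c * X) : Matrix (Fin 2) (Fin 2) k[X]) 1 0 = _
    rw [loR_10]
  · change (loR (C c * X) : Matrix (Fin 2) (Fin 2) k[X]) 1 1 = _
    rw [loR_11]; ring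
  · change (tv (c • r) (smul_sq hr c) : M →ₗ[k] M) = _
    rw [tv_val, map_zero, ev_C, smul_mul_assoc, one_mul]; simp

theorem TT_Wd {s r : M →ₗ[k] M} (hs : s * s = 0) (hr : r * r = 0)
    {x : Matrix.SpecialLinearGroup (Fin 2) k[X] × LinearMap.GeneralLinearGroup k M} (hx : x ∈ TT s r hs hr) :
    ∃ a b c d, Wd s r x a b c d := by
  unfold TT at hx
  induction hx using Subgroup.closure_induction with
  | mem x hx =>
    rcases hx with ⟨c, rfl⟩ | ⟨c, rfl⟩
    · exact ⟨_, _, _, _, Wd_up hs c⟩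
    · exact ⟨_, _, _, _, Wd_lo hr c⟩
  | one => exact ⟨_, _, _, _, Wd_one s r⟩
  | mul x y _ _ hx hy =>
    obtain ⟨a, b, c, d, hx⟩ := hx
    obtain ⟨a', b', c', d', hy⟩ := hy
    exact ⟨_, _, _, _, Wd_mul hs hr hx hy⟩
  | inv x _ hx =>
    obtain ⟨a, b, c, d, hx⟩ := hx
    exact ⟨_, _, _, _, Wd_inv hs hr hx⟩

theorem TT_mem {G : Subgroup (LinearMap.GeneralLinearGroup k M)} {s r : M →ₗ[k] M} (hs : RV G s) (hr : RV G r)
    {x : Matrix.SpecialLinearGroup (Fin 2) k[X] × LinearMap.GeneralLinearGroup k M} (hx : x ∈ TT s r hs.1 hr.1) :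
    x.2 ∈ G := by
  unfold TT at hx
  induction hx using Subgroup.closure_induction with
  | mem x hx =>
    rcases hx with ⟨c, rfl⟩ | ⟨c, rfl⟩
    · exact RV_mem hs c
    · exact RV_mem hr c
  | one => exact G.one_mem
  | mul x y _ _ hx hy => rw [Prod.snd_mul]; exact G.mul_mem hx hy
  | inv x _ hx => rw [Prod.snd_inv]; exact G.inv_mem hx

/-- the conjugate of `s` by a word -/
theorem Wd_cj_s {s r : M →ₗ[k] M} (hs : s * s = 0) (hr : r * r = 0)
    {x : Matrix.SpecialLinearGroup (Fin 2) k[X] × LinearMap.GeneralLinearGroup k M} {a b c d : k[X]}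
    (hx : Wd s r x a b c d) : cj x.2 s = ev s r ((1 + a * X) ^ 2) * s + ev s r ((1 + a * X) * c) * (r * s - s * r) -
      ev s r (c ^ 2 * X) * r := by
  have hi := Wd_inv hs hr hx
  have h1 := hx.2.2.2.2
  have h2 := hi.2.2.2.2
  rw [Prod.snd_inv] at h2
  unfold cj
  rw [h1, h2]
  have e := word_conj_s (s := s) (r := r) hs hr (A := ev s r a) (B := ev s r b) (C := ev s r c) (D := ev s r d)
    (B' := ev s r (-b)) (C' := ev s r (-c)) (P := ev s r (1 + a * X)) (s_ev hs _) (s_ev hs _) (s_ev hs _) (s_ev hs _)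
    (s_ev hs _) (r_ev hr _) (r_ev hr _) (r_ev hr _) (r_ev hr _) (r_ev hr _) (ev_comm s r _ _)
    (by rw [map_add, map_one, map_mul, ev_X]; rfl) (by rw [map_neg])
  rw [e]
  have f1 : ev s r ((1 + a * X) ^ 2) = ev s r (1 + a * X) * ev s r (1 + a * X) := by rw [pow_two, map_mul]
  have f2 : ev s r ((1 + a * X) * c) = ev s r (1 + a * X) * ev s r c := by rw [map_mul]
  have f3 : ev s r (c ^ 2 * X) = ev s r c * ev s r c * (s * r + r * s) := by rw [pow_two, map_mul, map_mul, ev_X]; rfl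
  rw [f1, f2, f3]

/-- the swapped word -/
theorem Wd_swap {s r : M →ₗ[k] M}
    {x : Matrix.SpecialLinearGroup (Fin 2) k[X] × LinearMap.GeneralLinearGroup k M} {a b c d : k[X]}
    (hx : Wd s r x a b c d) {m : Matrix.SpecialLinearGroup (Fin 2) k[X]}
    (m00 : (m : Matrix (Fin 2) (Fin 2) k[X]) 0 0 = 1 + d * X) (m01 : (m : Matrix (Fin 2) (Fin 2) k[X]) 0 1 = c)
    (m10 : (m : Matrix (Fin 2) (Fin 2) k[X]) 1 0 = b * X) (m11 : (m : Matrix (Fin 2) (Fin 2) k[X]) 1 1 = 1 + a * X) :
    Wd r s (m, x.2) d c b a := by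
  refine ⟨m00, m01, m10, m11, ?_⟩
  change (x.2 : M →ₗ[k] M) = _
  rw [hx.2.2.2.2, ev_swap]; abel

/-- the conjugate of `r` by a word -/
theorem Wd_cj_r {s r : M →ₗ[k] M} (hs : s * s = 0) (hr : r * r = 0)
    {x : Matrix.SpecialLinearGroup (Fin 2) k[X] × LinearMap.GeneralLinearGroup k M} {a b c d : k[X]}
    (hx : Wd s r x a b c d) : cj x.2 r = ev s r ((1 + d * X) ^ 2) * r + ev s r ((1 + d * X) * b) * (s * r - r * s) -
      ev s r (b ^ 2 * X) * s := by
  have hdet := slR_det x.1
  rw [hx.1, hx.2.1, hx.2.2.1, hx.2.2.2.1] at hdet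
  let m : Matrix.SpecialLinearGroup (Fin 2) k[X] := ⟨!![1 + d * X, c; b * X, 1 + a * X], by
    rw [Matrix.det_fin_two_of]; linear_combination hdet⟩
  have h := Wd_cj_s hr hs (Wd_swap hx (m := m) rfl rfl rfl rfl)
  rw [ev_swap] at h
  exact h

end Cfsg.Agent.H731
end

-- part: H731/QuadFit
section
set_option autoImplicit false
open Cfsg Polynomial

namespace Cfsg.Agent.H731

variable {k : Type*} [Field k] {M : Type*} [AddCommGroup M] [Module k M]

/-! ### The Fitting idempotent as a polynomial in `z` -/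

/-- `E(z)` is the Fitting idempotent of `z`. -/
structure Fit (s r : M →ₗ[k] M) (E W : k[X]) (n : ℕ) : Prop where
  ee : ev s r E * ev s r E = ev s r E
  nil : zz s r ^ n * (1 - ev s r E) = 0
  inv : ev s r W * zz s r * ev s r E = ev s r E

theorem exists_fit [FiniteDimensional k M] (s r : M →ₗ[k] M) : ∃ (E W : k[X]) (n : ℕ), Fit s r E W n := by
  have hint : IsIntegral k (zz s r : Module.End k M) := Algebra.IsIntegral.isIntegral _
  set p := minpoly k (zz s r : Module.End k M) with hpdef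
  have hp0 : p ≠ 0 := minpoly.ne_zero hint
  have hp : ev s r p = 0 := minpoly.aeval k (zz s r : Module.End k M)
  obtain ⟨g, hg, hgd⟩ := Polynomial.exists_eq_pow_rootMultiplicity_mul_and_not_dvd p hp0 0
  rw [C_0, sub_zero] at hg hgd
  set n := rootMultiplicity 0 p with hn
  have hcop : IsCoprime (X : k[X]) g := (Polynomial.prime_X.irreducible.coprime_iff_not_dvd).2 hgd
  obtain ⟨u, v, huv⟩ := hcop.pow_left (m := n)
  obtain ⟨u', v', huv'⟩ := hcop
  have key : ∀ q : k[X], ev s r (q * p) = 0 := fun q => by rw [map_mul, hp, mul_zero]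
  refine ⟨u * X ^ n, u', n, ?_, ?_, ?_⟩
  · rw [← map_mul, ← sub_eq_zero, ← map_sub]
    have : u * X ^ n * (u * X ^ n) - u * X ^ n = (-(u * v)) * p := by
      rw [hg]; linear_combination (u * X ^ n) * huv
    rw [this]; exact key _
  · have : zz s r ^ n * (1 - ev s r (u * X ^ n)) = ev s r (X ^ n * (1 - u * X ^ n)) := by
      simp only [map_mul, map_sub, map_one, map_pow, ev_X]
    rw [this]
    have h2 : X ^ n * (1 - u * X ^ n) = v * p := by rw [hg]; linear_combination (-(X ^ n)) * huv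
    rw [h2]; exact key _
  · rw [← ev_X, ← map_mul, ← map_mul, ← sub_eq_zero, ← map_sub]
    have : u' * X * (u * X ^ n) - u * X ^ n = (-(u * v')) * p := by
      rw [hg]; linear_combination (u * X ^ n) * huv'
    rw [this]; exact key _

/-! ### The filtration -/

/-- The filtration of `(1 - e) M` by words in `s, r`. -/
def Nf (s r e : M →ₗ[k] M) : ℕ → Submodule k M
  | 0 => LinearMap.range (1 - e)
  | j + 1 => (Nf s r e j).map s ⊔ (Nf s r e j).map r

theorem Nf_zero (s r e : M →ₗ[k] M) : Nf s r e 0 = LinearMap.range (1 - e) := rfl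

theorem Nf_succ (s r e : M →ₗ[k] M) (j : ℕ) : Nf s r e (j + 1) = (Nf s r e j).map s ⊔ (Nf s r e j).map r := rfl

theorem Nf_antitone {s r e : M →ₗ[k] M} (hse : s * e = e * s) (hre : r * e = e * r) (j : ℕ) :
    Nf s r e (j + 1) ≤ Nf s r e j := by
  induction j with
  | zero =>
    rw [Nf_succ, Nf_zero]
    apply sup_le
    · rintro _ ⟨_, ⟨v, rfl⟩, rfl⟩
      refine ⟨s v, ?_⟩
      rw [← Module.End.mul_apply, ← Module.End.mul_apply]
      congr 1
      rw [sub_mul, mul_sub, one_mul, mul_one, hse]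
    · rintro _ ⟨_, ⟨v, rfl⟩, rfl⟩
      refine ⟨r v, ?_⟩
      rw [← Module.End.mul_apply, ← Module.End.mul_apply]
      congr 1
      rw [sub_mul, mul_sub, one_mul, mul_one, hre]
  | succ j ih =>
    rw [Nf_succ s r e (j + 1), Nf_succ s r e j]
    exact sup_le_sup (Submodule.map_mono ih) (Submodule.map_mono ih)

theorem Nf_antitone' {s r e : M →ₗ[k] M} (hse : s * e = e * s) (hre : r * e = e * r) {i j : ℕ} (hij : i ≤ j) :
    Nf s r e j ≤ Nf s r e i := by
  induction hij with
  | refl => exact le_refl _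
  | step _ ih => exact (Nf_antitone hse hre _).trans ih

theorem Nf_three {s r e : M →ₗ[k] M} (hs : s * s = 0) (hr : r * r = 0) (j : ℕ) :
    Nf s r e (j + 3) ≤ (Nf s r e (j + 1)).map (zz s r) := by
  rw [Nf_succ s r e (j + 2), Nf_succ s r e (j + 1), Nf_succ s r e j]
  have e1 : s * (s * s) = 0 := by rw [hs, mul_zero]
  have e2 : s * (s * r) = 0 := by rw [← mul_assoc, hs, zero_mul]
  have e3 : s * (r * r) = 0 := by rw [hr, mul_zero]
  have e4 : r * (s * s) = 0 := by rw [hs, mul_zero]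
  have e5 : r * (r * s) = 0 := by rw [← mul_assoc, hr, zero_mul]
  have e6 : r * (r * r) = 0 := by rw [hr, mul_zero]
  have f1 : zz s r * s = s * (r * s) := by unfold zz; rw [add_mul, mul_assoc r, e4, add_zero, mul_assoc]
  have f2 : zz s r * r = r * (s * r) := by unfold zz; rw [add_mul, mul_assoc s, e3, zero_add, mul_assoc]
  simp only [Submodule.map_sup, ← Submodule.map_comp, ← Module.End.mul_eq_comp, f1, f2, e1, e2, e3, e4, e5, e6,
    Submodule.map_zero]
  refine sup_le (sup_le (sup_le bot_le bot_le) (sup_le ?_ bot_le)) (sup_le (sup_le bot_le ?_) (sup_le bot_le bot_le))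
  · exact le_sup_left
  · exact le_sup_right

theorem Nf_odd {s r e : M →ₗ[k] M} (hs : s * s = 0) (hr : r * r = 0) (i : ℕ) :
    Nf s r e (2 * i + 1) ≤ (Nf s r e 1).map (zz s r ^ i) := by
  induction i with
  | zero => rw [pow_zero]; simp [Module.End.one_eq_id]
  | succ i ih =>
    have h := Nf_three (e := e) hs hr (2 * i)
    have e1 : 2 * (i + 1) + 1 = 2 * i + 3 := by ring
    rw [e1, pow_succ', Module.End.mul_eq_comp, Submodule.map_comp]
    exact h.trans (Submodule.map_mono ih)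

theorem Nf_eq_bot {s r e : M →ₗ[k] M} (hs : s * s = 0) (hr : r * r = 0) (hse : s * e = e * s) (hre : r * e = e * r)
    {n : ℕ} (hn : zz s r ^ n * (1 - e) = 0) : Nf s r e (2 * n + 1) = ⊥ := by
  rw [eq_bot_iff]
  refine (Nf_odd hs hr n).trans ((Submodule.map_mono (Nf_antitone hse hre 0)).trans ?_)
  rw [Nf_zero, ← LinearMap.range_comp, ← Module.End.mul_eq_comp, hn, LinearMap.range_zero]

/-- Endomorphisms shifting the filtration by `j`. -/
def Lf (s r e : M →ₗ[k] M) (j : ℕ) : Submodule k (M →ₗ[k] M) where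
  carrier := {y | ∀ i, ∀ v ∈ Nf s r e i, y v ∈ Nf s r e (i + j)}
  zero_mem' := fun i v _ => by rw [LinearMap.zero_apply]; exact Submodule.zero_mem _
  add_mem' := fun hx hy i v hv => by rw [LinearMap.add_apply]; exact Submodule.add_mem _ (hx i v hv) (hy i v hv)
  smul_mem' := fun c x hx i v hv => by rw [LinearMap.smul_apply]; exact Submodule.smul_mem _ _ (hx i v hv)

theorem mem_Lf {s r e : M →ₗ[k] M} {j : ℕ} {y : M →ₗ[k] M} :
    y ∈ Lf s r e j ↔ ∀ i, ∀ v ∈ Nf s r e i, y v ∈ Nf s r e (i + j) := Iff.rfl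

theorem Lf_mul {s r e : M →ₗ[k] M} {i j : ℕ} {x y : M →ₗ[k] M} (hx : x ∈ Lf s r e i) (hy : y ∈ Lf s r e j) :
    x * y ∈ Lf s r e (i + j) := by
  intro l v hv
  have h1 := hy l v hv
  have h2 := hx _ _ h1
  rw [Module.End.mul_apply]
  have e1 : l + (i + j) = l + j + i := by ring
  rw [e1]; exact h2

theorem Lf_s (s r e : M →ₗ[k] M) : s ∈ Lf s r e 1 := fun i v hv => by
  rw [Nf_succ]; exact Submodule.mem_sup_left ⟨v, hv, rfl⟩

theorem Lf_r (s r e : M →ₗ[k] M) : r ∈ Lf s r e 1 := fun i v hv => by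
  rw [Nf_succ]; exact Submodule.mem_sup_right ⟨v, hv, rfl⟩

theorem Lf_one (s r e : M →ₗ[k] M) : (1 : M →ₗ[k] M) ∈ Lf s r e 0 := fun i v hv => hv

theorem Lf_antitone {s r e : M →ₗ[k] M} (hse : s * e = e * s) (hre : r * e = e * r) {i j : ℕ} (hij : i ≤ j) :
    Lf s r e j ≤ Lf s r e i := fun _ hy l v hv => Nf_antitone' hse hre (by omega) (hy l v hv)

theorem Lf_ev {s r e : M →ₗ[k] M} (hse : s * e = e * s) (hre : r * e = e * r) (p : k[X]) :
    ev s r p ∈ Lf s r e 0 := by
  have hz : zz s r ∈ Lf s r e 0 := by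
    unfold zz
    exact Submodule.add_mem _ (Lf_antitone hse hre (Nat.zero_le _) (Lf_mul (Lf_s s r e) (Lf_r s r e)))
      (Lf_antitone hse hre (Nat.zero_le _) (Lf_mul (Lf_r s r e) (Lf_s s r e)))
  have hzn : ∀ n : ℕ, zz s r ^ n ∈ Lf s r e 0 := by
    intro n
    induction n with
    | zero => rw [pow_zero]; exact Lf_one s r e
    | succ n ih => rw [pow_succ]; exact Lf_mul ih hz
  induction p using Polynomial.induction_on' with
  | add p q hp hq => rw [map_add]; exact Submodule.add_mem _ hp hq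
  | monomial n a =>
    rw [← C_mul_X_pow_eq_monomial, map_mul, ev_C, map_pow, ev_X, smul_mul_assoc, one_mul]
    exact Submodule.smul_mem _ _ (hzn n)

theorem Lf_ev_mul {s r e : M →ₗ[k] M} (hse : s * e = e * s) (hre : r * e = e * r) (p : k[X]) {y : M →ₗ[k] M} {j : ℕ}
    (hy : y ∈ Lf s r e j) : ev s r p * y ∈ Lf s r e j := by
  have := Lf_mul (Lf_ev hse hre p) hy
  rwa [zero_add] at this

theorem Wd_Lf {s r e : M →ₗ[k] M} (hse : s * e = e * s) (hre : r * e = e * r)
    {x : Matrix.SpecialLinearGroup (Fin 2) k[X] × LinearMap.GeneralLinearGroup k M} {a b c d : k[X]}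
    (hx : Wd s r x a b c d) : (x.2 : M →ₗ[k] M) - 1 ∈ Lf s r e 1 := by
  rw [hx.2.2.2.2]
  have e1 : 1 + ev s r a * (s * r) + ev s r b * s + ev s r c * r + ev s r d * (r * s) - 1 =
      ev s r a * (s * r) + ev s r b * s + ev s r c * r + ev s r d * (r * s) := by abel
  rw [e1]
  have h12 : Lf s r e (1 + 1) ≤ Lf s r e 1 := Lf_antitone hse hre (by omega)
  exact Submodule.add_mem _ (Submodule.add_mem _ (Submodule.add_mem _
    (Lf_ev_mul hse hre _ (h12 (Lf_mul (Lf_s s r e) (Lf_r s r e)))) (Lf_ev_mul hse hre _ (Lf_s s r e)))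
    (Lf_ev_mul hse hre _ (Lf_r s r e))) (Lf_ev_mul hse hre _ (h12 (Lf_mul (Lf_r s r e) (Lf_s s r e))))

theorem Lf_unit_of_sub {s r e : M →ₗ[k] M} {y : M →ₗ[k] M} (hse : s * e = e * s) (hre : r * e = e * r)
    (hy : y - 1 ∈ Lf s r e 1) : y ∈ Lf s r e 0 := by
  have h := Submodule.add_mem _ (Lf_antitone hse hre (Nat.zero_le 1) hy) (Lf_one s r e)
  rwa [sub_add_cancel] at h

theorem val_mul_inv' (g : LinearMap.GeneralLinearGroup k M) :
    (g : M →ₗ[k] M) * ((g⁻¹ : LinearMap.GeneralLinearGroup k M) : M →ₗ[k] M) = 1 := Units.mul_inv g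

theorem val_inv_mul' (g : LinearMap.GeneralLinearGroup k M) :
    ((g⁻¹ : LinearMap.GeneralLinearGroup k M) : M →ₗ[k] M) * (g : M →ₗ[k] M) = 1 := Units.inv_mul g

/-- commutators move deeper into the filtration -/
theorem Lf_commutator {s r e : M →ₗ[k] M} (hse : s * e = e * s) (hre : r * e = e * r)
    {g h : LinearMap.GeneralLinearGroup k M} {i j : ℕ} (hg : (g : M →ₗ[k] M) - 1 ∈ Lf s r e i)
    (hh : (h : M →ₗ[k] M) - 1 ∈ Lf s r e j)
    (hg' : ((g⁻¹ : LinearMap.GeneralLinearGroup k M) : M →ₗ[k] M) ∈ Lf s r e 0)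
    (hh' : ((h⁻¹ : LinearMap.GeneralLinearGroup k M) : M →ₗ[k] M) ∈ Lf s r e 0) :
    ((g * h * g⁻¹ * h⁻¹ : LinearMap.GeneralLinearGroup k M) : M →ₗ[k] M) - 1 ∈ Lf s r e (i + j) := by
  have e1 : ((g * h * g⁻¹ * h⁻¹ : LinearMap.GeneralLinearGroup k M) : M →ₗ[k] M) - 1 =
      (((g : M →ₗ[k] M) - 1) * ((h : M →ₗ[k] M) - 1) - ((h : M →ₗ[k] M) - 1) * ((g : M →ₗ[k] M) - 1)) *
        (((g⁻¹ : LinearMap.GeneralLinearGroup k M) : M →ₗ[k] M) * ((h⁻¹ : LinearMap.GeneralLinearGroup k M) : M →ₗ[k] M)) := by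
    have e2 : ((g : M →ₗ[k] M) - 1) * ((h : M →ₗ[k] M) - 1) - ((h : M →ₗ[k] M) - 1) * ((g : M →ₗ[k] M) - 1) =
        (g : M →ₗ[k] M) * (h : M →ₗ[k] M) - (h : M →ₗ[k] M) * (g : M →ₗ[k] M) := by noncomm_ring
    rw [e2, sub_mul, Units.val_mul, Units.val_mul, Units.val_mul]
    have e3 : (h : M →ₗ[k] M) * (g : M →ₗ[k] M) * (((g⁻¹ : LinearMap.GeneralLinearGroup k M) : M →ₗ[k] M) *
        ((h⁻¹ : LinearMap.GeneralLinearGroup k M) : M →ₗ[k] M)) = 1 := by
      calc _ = (h : M →ₗ[k] M) * ((g : M →ₗ[k] M) * ((g⁻¹ : LinearMap.GeneralLinearGroup k M) : M →ₗ[k] M)) *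
          ((h⁻¹ : LinearMap.GeneralLinearGroup k M) : M →ₗ[k] M) := by noncomm_ring
        _ = 1 := by rw [val_mul_inv', mul_one, val_mul_inv']
    rw [e3]; noncomm_ring
  rw [e1]
  have h1 : ((g : M →ₗ[k] M) - 1) * ((h : M →ₗ[k] M) - 1) - ((h : M →ₗ[k] M) - 1) * ((g : M →ₗ[k] M) - 1) ∈
      Lf s r e (i + j) := by
    apply Submodule.sub_mem _ (Lf_mul hg hh)
    have := Lf_mul hh hg
    rwa [add_comm j i] at this
  have := Lf_mul h1 (Lf_mul hg' hh')
  simpa using this

/-- iterated commutators with `h` -/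
noncomputable def itc {s r : M →ₗ[k] M} (h w : Matrix.SpecialLinearGroup (Fin 2) k[X] × LinearMap.GeneralLinearGroup k M) :
    ℕ → Matrix.SpecialLinearGroup (Fin 2) k[X] × LinearMap.GeneralLinearGroup k M
  | 0 => w
  | j + 1 => h * itc (s := s) (r := r) h w j * h⁻¹ * (itc (s := s) (r := r) h w j)⁻¹

/-- **Killing the nilpotent part.** -/
theorem kill {G : Subgroup (LinearMap.GeneralLinearGroup k M)} {s r : M →ₗ[k] M} (hs : RV G s) (hr : RV G r)
    {E W : k[X]} {n : ℕ} (hf : Fit s r E W n)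
    {h w : Matrix.SpecialLinearGroup (Fin 2) k[X] × LinearMap.GeneralLinearGroup k M}
    (hh : h ∈ TT s r hs.1 hr.1) (hw : w ∈ TT s r hs.1 hr.1) {y : M →ₗ[k] M} {l : k} (hyy : y * y = 0)
    (hye : y * ev s r E = y) (hey : ev s r E * y = y)
    (hwe : (w.2 : M →ₗ[k] M) * ev s r E = ev s r E + y) (hhy : cj h.2 y = (1 + l) • y) :
    ∃ g ∈ G, (g : M →ₗ[k] M) = 1 + (l ^ (2 * n)) • y := by
  set e := ev s r E with he
  have hse : s * e = e * s := s_ev hs.1 E
  have hre : r * e = e * r := r_ev hr.1 E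
  have hcomm : ∀ x ∈ TT s r hs.1 hr.1, (x.2 : M →ₗ[k] M) * e = e * (x.2 : M →ₗ[k] M) := by
    intro x hx
    obtain ⟨a, b, c, d, hW⟩ := TT_Wd hs.1 hr.1 hx
    rw [hW.2.2.2.2]
    have f : ∀ p : k[X], ev s r p * e = e * ev s r p := fun p => ev_comm s r p E
    simp only [add_mul, mul_add, one_mul, mul_one]
    rw [mul_assoc, mul_assoc s r e, hre, ← mul_assoc s e r, hse, mul_assoc, ← mul_assoc (ev s r a) e, f, mul_assoc e,
      mul_assoc (ev s r b), hse, ← mul_assoc (ev s r b) e, f, mul_assoc e, mul_assoc (ev s r c), hre,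
      ← mul_assoc (ev s r c) e, f, mul_assoc e, mul_assoc (ev s r d), mul_assoc r s e, hse, ← mul_assoc r e s, hre,
      mul_assoc e r s, ← mul_assoc (ev s r d) e, f, mul_assoc e]
  have hone : ∀ x ∈ TT s r hs.1 hr.1, (x.2 : M →ₗ[k] M) - 1 ∈ Lf s r e 1 := by
    intro x hx
    obtain ⟨a, b, c, d, hW⟩ := TT_Wd hs.1 hr.1 hx
    exact Wd_Lf hse hre hW
  have hinv : ∀ x ∈ TT s r hs.1 hr.1, ((x.2⁻¹ : LinearMap.GeneralLinearGroup k M) : M →ₗ[k] M) ∈ Lf s r e 0 := by
    intro x hx
    have := hone _ (Subgroup.inv_mem _ hx)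
    rw [Prod.snd_inv] at this
    exact Lf_unit_of_sub hse hre this
  have main : ∀ j, itc (s := s) (r := r) h w j ∈ TT s r hs.1 hr.1 ∧
      ((itc (s := s) (r := r) h w j).2 : M →ₗ[k] M) - 1 ∈ Lf s r e (j + 1) ∧
      ((itc (s := s) (r := r) h w j).2 : M →ₗ[k] M) * e = e + (l ^ j) • y := by
    intro j
    induction j with
    | zero => exact ⟨hw, hone _ hw, by rw [pow_zero, one_smul]; exact hwe⟩
    | succ j ih =>
      obtain ⟨i1, i2, i3⟩ := ih
      set v := itc (s := s) (r := r) h w j with hv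
      have hstep : itc (s := s) (r := r) h w (j + 1) = h * v * h⁻¹ * v⁻¹ := rfl
      rw [hstep]
      refine ⟨?_, ?_, ?_⟩
      · exact Subgroup.mul_mem _ (Subgroup.mul_mem _ (Subgroup.mul_mem _ hh i1) (Subgroup.inv_mem _ hh))
          (Subgroup.inv_mem _ i1)
      · rw [Prod.snd_mul, Prod.snd_mul, Prod.snd_mul, Prod.snd_inv, Prod.snd_inv]
        have := Lf_commutator hse hre (hone _ hh) i2 (hinv _ hh) (hinv _ i1)
        rwa [add_comm 1 (j + 1)] at this
      · rw [Prod.snd_mul, Prod.snd_mul, Prod.snd_mul, Prod.snd_inv, Prod.snd_inv]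
        obtain ⟨y', hy'⟩ : ∃ y', y' = (l ^ j) • y := ⟨_, rfl⟩
        rw [← hy'] at i3
        have y'y' : y' * y' = 0 := by rw [hy', smul_mul_smul_comm, hyy, smul_zero]
        have y'e : y' * e = y' := by rw [hy', smul_mul_assoc, hye]
        have ey' : e * y' = y' := by rw [hy', mul_smul_comm, hey]
        have ee := hf.ee
        rw [← he] at ee
        have i4 : ((v.2⁻¹ : LinearMap.GeneralLinearGroup k M) : M →ₗ[k] M) * e = e - y' := by
          have h1 : (v.2 : M →ₗ[k] M) * (e - y') = e := by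
            calc (v.2 : M →ₗ[k] M) * (e - y') = (v.2 : M →ₗ[k] M) * e * (e - y') := by
                  rw [mul_assoc, mul_sub e, ee, ey']
              _ = e := by rw [i3, add_mul, mul_sub, mul_sub, ee, ey', y'e, y'y']; abel
          calc ((v.2⁻¹ : LinearMap.GeneralLinearGroup k M) : M →ₗ[k] M) * e
              = ((v.2⁻¹ : LinearMap.GeneralLinearGroup k M) : M →ₗ[k] M) * ((v.2 : M →ₗ[k] M) * (e - y')) := by rw [h1]
            _ = e - y' := by rw [← mul_assoc, val_inv_mul', one_mul]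
        have i5 : cj h.2 (e + y') = e + (1 + l) • y' := by
          have h2 : cj h.2 e = e := by
            unfold cj
            rw [hcomm _ hh, mul_assoc, val_mul_inv', mul_one]
          rw [cj_add, h2, hy', cj_smul, hhy, smul_comm]
        have i6 : (h.2 : M →ₗ[k] M) * (v.2 : M →ₗ[k] M) * ((h.2⁻¹ : LinearMap.GeneralLinearGroup k M) : M →ₗ[k] M) * e =
            e + (1 + l) • y' := by
          rw [← i5, ← i3]
          unfold cj
          have h3 : ((h.2⁻¹ : LinearMap.GeneralLinearGroup k M) : M →ₗ[k] M) * e =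
              e * ((h.2⁻¹ : LinearMap.GeneralLinearGroup k M) : M →ₗ[k] M) := by
            have := hcomm _ (Subgroup.inv_mem _ hh)
            rwa [Prod.snd_inv] at this
          rw [mul_assoc, h3]; noncomm_ring
        rw [Units.val_mul, Units.val_mul, Units.val_mul, mul_assoc, i4]
        calc (h.2 : M →ₗ[k] M) * (v.2 : M →ₗ[k] M) * ((h.2⁻¹ : LinearMap.GeneralLinearGroup k M) : M →ₗ[k] M) * (e - y')
            = (h.2 : M →ₗ[k] M) * (v.2 : M →ₗ[k] M) * ((h.2⁻¹ : LinearMap.GeneralLinearGroup k M) : M →ₗ[k] M) * e * (e - y') := by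
              rw [mul_assoc _ e, mul_sub e, ee, ey']
          _ = e + l • y' := by
              rw [i6, add_mul, mul_sub, mul_sub, ee, ey', smul_mul_assoc, smul_mul_assoc, y'e, y'y', smul_zero,
                add_smul, one_smul]; abel
          _ = e + (l ^ (j + 1)) • y := by rw [hy', smul_smul, pow_succ']
  obtain ⟨m1, m2, m3⟩ := main (2 * n)
  refine ⟨_, TT_mem hs hr m1, ?_⟩
  set v := itc (s := s) (r := r) h w (2 * n) with hv
  have hbot := Nf_eq_bot hs.1 hr.1 hse hre hf.nil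
  have h0 : ((v.2 : M →ₗ[k] M) - 1) * (1 - e) = 0 := by
    ext u
    rw [Module.End.mul_apply, LinearMap.zero_apply]
    have := m2 0 ((1 - e) u) (by rw [Nf_zero]; exact ⟨u, rfl⟩)
    rw [zero_add, hbot] at this
    exact (Submodule.mem_bot k).1 this
  have e2 : (v.2 : M →ₗ[k] M) = (v.2 : M →ₗ[k] M) * e + ((v.2 : M →ₗ[k] M) - 1) * (1 - e) + (1 - e) := by noncomm_ring
  rw [e2, m3, h0]; abel

end Cfsg.Agent.H731
end

-- part: H731/QuadCore
section
set_option autoImplicit false
open Cfsg Polynomial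

namespace Cfsg.Agent.H731

variable {k : Type*} [Field k] {M : Type*} [AddCommGroup M] [Module k M]

/-- The polynomials `p` with `p(z) e = 0`. -/
noncomputable def II (s r : M →ₗ[k] M) (E : k[X]) : Ideal k[X] where
  carrier := {p | ev s r p * ev s r E = 0}
  zero_mem' := by
    change ev s r 0 * ev s r E = 0
    rw [map_zero, zero_mul]
  add_mem' := by
    intro a b ha hb
    change ev s r (a + b) * ev s r E = 0
    rw [map_add, add_mul, ha, hb, add_zero]
  smul_mem' := by
    intro c x hx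
    change ev s r (c • x) * ev s r E = 0
    rw [smul_eq_mul, map_mul, mul_assoc, hx, mul_zero]

theorem mem_II {s r : M →ₗ[k] M} {E p : k[X]} : p ∈ II s r E ↔ ev s r p * ev s r E = 0 := Iff.rfl

theorem mk_eq {s r : M →ₗ[k] M} {E p q : k[X]} :
    Ideal.Quotient.mk (II s r E) p = Ideal.Quotient.mk (II s r E) q ↔ ev s r p * ev s r E = ev s r q * ev s r E := by
  rw [Ideal.Quotient.eq, mem_II, map_sub, sub_mul, sub_eq_zero]

theorem Fit.W_X {s r : M →ₗ[k] M} {E W : k[X]} {n : ℕ} (hf : Fit s r E W n) : 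
    ev s r (W * X) * ev s r E = ev s r E := by rw [map_mul, ev_X]; exact hf.inv

theorem Fit.cancelX {s r : M →ₗ[k] M} {E W : k[X]} {n : ℕ} (hf : Fit s r E W n) {p : k[X]}
    (h : ev s r (p * X) * ev s r E = 0) : ev s r p * ev s r E = 0 := by
  have h1 : ev s r p * ev s r E = ev s r W * (ev s r (p * X) * ev s r E) := by
    calc ev s r p * ev s r E = ev s r p * (ev s r (W * X) * ev s r E) := by rw [hf.W_X]
      _ = ev s r W * (ev s r (p * X) * ev s r E) := by
        simp only [← map_mul]; congr 1; ring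
  rw [h1, h, mul_zero]

theorem Fit.of_s {s r : M →ₗ[k] M} {E W : k[X]} {n : ℕ} (hf : Fit s r E W n) (hs : s * s = 0) (hr : r * r = 0) {p : k[X]}
    (h : ev s r p * ev s r E * s = 0) : ev s r p * ev s r E = 0 := by
  apply hf.cancelX
  have h1 : ev s r (p * X) * ev s r E = (ev s r p * ev s r E * s) * r + r * (ev s r p * ev s r E * s) := by
    have e1 : r * (ev s r p * ev s r E * s) = ev s r p * ev s r E * (r * s) := by
      rw [← mul_assoc, ← mul_assoc, r_ev hr, mul_assoc (ev s r p), r_ev hr]; noncomm_ring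
    rw [e1, map_mul, ev_X]
    have e2 : ev s r p * zz s r * ev s r E = ev s r p * ev s r E * zz s r := by
      rw [mul_assoc, mul_assoc, ← ev_X, ev_comm]
    rw [e2]; unfold zz; noncomm_ring
  rw [h1, h]; simp

theorem Fit.of_r {s r : M →ₗ[k] M} {E W : k[X]} {n : ℕ} (hf : Fit s r E W n) (hs : s * s = 0) (hr : r * r = 0) {p : k[X]}
    (h : ev s r p * ev s r E * r = 0) : ev s r p * ev s r E = 0 := by
  apply hf.cancelX
  have h1 : ev s r (p * X) * ev s r E = (ev s r p * ev s r E * r) * s + s * (ev s r p * ev s r E * r) := by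
    have e1 : s * (ev s r p * ev s r E * r) = ev s r p * ev s r E * (s * r) := by
      rw [← mul_assoc, ← mul_assoc, s_ev hs, mul_assoc (ev s r p), s_ev hs]; noncomm_ring
    rw [e1, map_mul, ev_X]
    have e2 : ev s r p * zz s r * ev s r E = ev s r p * ev s r E * zz s r := by
      rw [mul_assoc, mul_assoc, ← ev_X, ev_comm]
    rw [e2]; unfold zz; noncomm_ring
  rw [h1, h]; simp

theorem Fit.ne_top {s r : M →ₗ[k] M} {E : k[X]} (hne : ev s r E ≠ 0) : II s r E ≠ ⊤ := by
  intro h
  have : (1 : k[X]) ∈ II s r E := by rw [h]; exact Submodule.mem_top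
  rw [mem_II, map_one, one_mul] at this
  exact hne this

theorem Fit.ne_zero {s r : M →ₗ[k] M} {E W : k[X]} {n : ℕ} (hf : Fit s r E W n) (hn : ¬ IsNilpotent (zz s r)) :
    ev s r E ≠ 0 := by
  intro h
  have := hf.nil
  rw [h, sub_zero, mul_one] at this
  exact hn ⟨n, this⟩

theorem finite_quot [FiniteDimensional k M] (s r : M →ₗ[k] M) (E : k[X]) {J : Ideal k[X]} (hJ : II s r E ≤ J) :
    FiniteDimensional k (k[X] ⧸ J) := by
  have hint : IsIntegral k (zz s r : Module.End k M) := Algebra.IsIntegral.isIntegral _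
  set p := minpoly k (zz s r : Module.End k M) with hpdef
  have hp : ev s r p = 0 := minpoly.aeval k (zz s r : Module.End k M)
  have hpm : p.Monic := minpoly.monic hint
  have hpJ : p ∈ J := hJ (by rw [mem_II, hp, zero_mul])
  have hle : Ideal.span {p} ≤ J := by
    rw [Ideal.span_le, Set.singleton_subset_iff]; exact hpJ
  haveI : Module.Finite k (k[X] ⧸ Ideal.span {p}) := hpm.finite_quotient
  exact Module.Finite.of_surjective (Ideal.Quotient.factorₐ k hle).toLinearMap
    (Ideal.Quotient.factor_surjective hle)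

/-- reduction of the first component -/
noncomputable def redm (J : Ideal k[X]) : Matrix.SpecialLinearGroup (Fin 2) k[X] →* Matrix.SpecialLinearGroup (Fin 2) (k[X] ⧸ J) :=
  Matrix.SpecialLinearGroup.map (Ideal.Quotient.mk J)

theorem redm_apply (J : Ideal k[X]) (g : Matrix.SpecialLinearGroup (Fin 2) k[X]) (i j : Fin 2) :
    (redm J g : Matrix (Fin 2) (Fin 2) (k[X] ⧸ J)) i j = Ideal.Quotient.mk J ((g : Matrix (Fin 2) (Fin 2) k[X]) i j) := rfl

theorem redm_up (J : Ideal k[X]) (f : k[X]) : redm J (upR f) = upR (Ideal.Quotient.mk J f) := by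
  apply slR_ext <;> simp only [redm_apply, upR_00, upR_01, upR_10, upR_11, map_one, map_zero]

theorem redm_lo (J : Ideal k[X]) (f : k[X]) : redm J (loR f) = loR (Ideal.Quotient.mk J f) := by
  apply slR_ext <;> simp only [redm_apply, loR_00, loR_01, loR_10, loR_11, map_one, map_zero]

theorem core1 [FiniteDimensional k M] (hk2 : ringChar k ≠ 2) (hk3 : Nat.card k ≠ 3) {s r : M →ₗ[k] M}
    (hs : s * s = 0) (hr : r * r = 0) {E W : k[X]} {n : ℕ} (hf : Fit s r E W n) (hne : ev s r E ≠ 0)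
    (hq : ∀ x ∈ TT s r hs hr, Ideal.Quotient.mk (II s r E) ((x.1 : Matrix (Fin 2) (Fin 2) k[X]) 1 0) = 0 ∨
      IsUnit (Ideal.Quotient.mk (II s r E) ((x.1 : Matrix (Fin 2) (Fin 2) k[X]) 1 0))) :
    (II s r E).IsMaximal ∧ (∀ y : k[X] ⧸ II s r E, ∃ x ∈ TT s r hs hr, redm (II s r E) x.1 = upR y) ∧
      (∀ y : k[X] ⧸ II s r E, ∃ x ∈ TT s r hs hr, redm (II s r E) x.1 = loR y) := by
  obtain ⟨J, hJmax, hIJ⟩ := Ideal.exists_le_maximal _ (Fit.ne_top hne)
  letI : Field (k[X] ⧸ J) := Ideal.Quotient.field J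
  haveI : FiniteDimensional k (k[X] ⧸ J) := finite_quot s r E hIJ
  set I := II s r E with hI
  let φ : (k[X] ⧸ I) →ₐ[k] (k[X] ⧸ J) := Ideal.Quotient.factorₐ k hIJ
  have hφ : ∀ p : k[X], φ (Ideal.Quotient.mk I p) = Ideal.Quotient.mk J p := fun p => rfl
  have hz : IsUnit (Ideal.Quotient.mk I X) := by
    refine IsUnit.of_mul_eq_one (Ideal.Quotient.mk I W) ?_
    rw [← map_mul, ← map_one (Ideal.Quotient.mk I), mk_eq, mul_comm X W, hf.W_X, map_one, one_mul]
  have hgen : Algebra.adjoin k ({Ideal.Quotient.mk I X} : Set (k[X] ⧸ I)) = ⊤ := by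
    have h1 := (Ideal.Quotient.mkₐ k I).map_adjoin ({X} : Set k[X])
    rw [Polynomial.adjoin_X, Set.image_singleton, Algebra.map_top] at h1
    rw [eq_comm, ← (AlgHom.range_eq_top _).2 (Ideal.Quotient.mkₐ_surjective k I)]
    exact h1
  let H : Subgroup (Matrix.SpecialLinearGroup (Fin 2) (k[X] ⧸ I)) :=
    (TT s r hs hr).map ((redm I).comp (MonoidHom.fst _ _))
  have hHmem : ∀ x ∈ TT s r hs hr, redm I x.1 ∈ H := fun x hx => ⟨x, hx, rfl⟩
  have hu : ∀ c : k, upR (algebraMap k (k[X] ⧸ I) c) ∈ H := by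
    intro c
    have := hHmem _ (TT_up hs hr c)
    rwa [redm_up] at this
  have hl : loR (Ideal.Quotient.mk I X) ∈ H := by
    have := hHmem _ (TT_lo hs hr 1)
    rwa [redm_lo, map_one, one_mul] at this
  have h10 : ∀ g ∈ H, (g : Matrix (Fin 2) (Fin 2) (k[X] ⧸ I)) 1 0 = 0 ∨
      IsUnit ((g : Matrix (Fin 2) (Fin 2) (k[X] ⧸ I)) 1 0) := by
    rintro _ ⟨x, hx, rfl⟩
    exact hq x hx
  -- the residue field
  set α := Ideal.Quotient.mk J X with hα
  have hα0 : α ≠ 0 := by
    have := (hz.map φ).ne_zero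
    rwa [hφ] at this
  have hαalg : IsAlgebraic k α := Algebra.IsAlgebraic.isAlgebraic α
  have h60 := Cfsg.Agent.S5060.result (k := k) (K := k[X] ⧸ J) hk2 hk3 α hαalg hα0
  have htop : ∀ y : k[X] ⧸ J, y ∈ IntermediateField.adjoin k ({α} : Set (k[X] ⧸ J)) := by
    intro y
    obtain ⟨p, rfl⟩ := Ideal.Quotient.mk_surjective y
    have h1 : α ∈ IntermediateField.adjoin k ({α} : Set (k[X] ⧸ J)) :=
      IntermediateField.mem_adjoin_simple_self k α
    induction p using Polynomial.induction_on' with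
    | add p q hp hq => rw [map_add]; exact add_mem hp hq
    | monomial m a =>
      rw [← C_mul_X_pow_eq_monomial, map_mul, map_pow]
      exact mul_mem (IntermediateField.algebraMap_mem _ a) (pow_mem h1 m)
  let KF : Subgroup (Matrix.SpecialLinearGroup (Fin 2) (k[X] ⧸ J)) :=
    (TT s r hs hr).map ((redm J).comp (MonoidHom.fst _ _))
  have hKF : ∀ y : k[X] ⧸ J, upR y ∈ KF := by
    intro y
    have hmem : upR y ∈ {g : Matrix.SpecialLinearGroup (Fin 2) (k[X] ⧸ J) | ∀ i j : Fin 2,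
        (g : Matrix (Fin 2) (Fin 2) (k[X] ⧸ J)) i j ∈ IntermediateField.adjoin k ({α} : Set (k[X] ⧸ J))} :=
      fun i j => htop _
    rw [← h60] at hmem
    refine (Subgroup.closure_le KF).2 ?_ hmem
    rintro g (⟨c, hc⟩ | ⟨c, hc⟩)
    · refine ⟨_, TT_up hs hr c, ?_⟩
      apply Subtype.ext
      rw [hc]
      change (redm J (upR (C c)) : Matrix (Fin 2) (Fin 2) (k[X] ⧸ J)) = _
      rw [redm_up]; rfl
    · refine ⟨_, TT_lo hs hr c, ?_⟩
      apply Subtype.ext
      rw [hc]
      change (redm J (loR (C c * X)) : Matrix (Fin 2) (Fin 2) (k[X] ⧸ J)) = _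
      rw [redm_lo, map_mul]; rfl
  have hlift : ∀ a : k[X] ⧸ J, ∃ g ∈ H, φ ((g : Matrix (Fin 2) (Fin 2) (k[X] ⧸ I)) 0 0) = 1 ∧
      φ ((g : Matrix (Fin 2) (Fin 2) (k[X] ⧸ I)) 0 1) = a ∧ φ ((g : Matrix (Fin 2) (Fin 2) (k[X] ⧸ I)) 1 0) = 0 := by
    intro a
    obtain ⟨x, hx, hxa⟩ := hKF a
    change redm J x.1 = upR a at hxa
    refine ⟨redm I x.1, hHmem x hx, ?_, ?_, ?_⟩
    · rw [redm_apply, hφ, ← redm_apply, hxa, upR_00]
    · rw [redm_apply, hφ, ← redm_apply, hxa, upR_01]
    · rw [redm_apply, hφ, ← redm_apply, hxa, upR_10]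
  obtain ⟨r1, r2, r3⟩ := L1 hk2 φ hz hgen H hu hl hlift h10
  have hIJ' : J ≤ I := by
    intro p hp
    have h1 := r2 (Ideal.Quotient.mk I p) (by rw [hφ]; exact Ideal.Quotient.eq_zero_iff_mem.2 hp)
    exact Ideal.Quotient.eq_zero_iff_mem.1 h1
  have hEq : I = J := le_antisymm hIJ hIJ'
  refine ⟨by rw [hEq]; exact hJmax, ?_, ?_⟩
  · intro y
    obtain ⟨x, hx, hxy⟩ := r1 y
    exact ⟨x, hx, hxy⟩
  · intro y
    obtain ⟨x, hx, hxy⟩ := r3 y
    exact ⟨x, hx, hxy⟩

end Cfsg.Agent.H731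
end

-- part: H731/QuadCore2
section
set_option autoImplicit false
open Cfsg Polynomial

namespace Cfsg.Agent.H731

variable {k : Type*} [Field k] {M : Type*} [AddCommGroup M] [Module k M]

theorem exists_sq_ne_one (hk2 : ringChar k ≠ 2) (hk3 : Nat.card k ≠ 3) : ∃ c : k, c ≠ 0 ∧ c ^ 2 ≠ 1 := by
  classical
  by_contra hcon
  push Not at hcon
  apply hk3
  have h2 : (2 : k) ≠ 0 := Ring.two_ne_zero hk2
  have huniv : (Set.univ : Set k) = (({0, 1, -1} : Finset k) : Set k) := by
    ext c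
    simp only [Set.mem_univ, Finset.coe_insert, Finset.coe_singleton, Set.mem_insert_iff, Set.mem_singleton_iff,
      true_iff]
    by_cases hc : c = 0
    · left; exact hc
    · right
      have h := hcon c hc
      have h3 : (c - 1) * (c + 1) = 0 := by linear_combination h
      rcases mul_eq_zero.1 h3 with h4 | h4
      · left; linear_combination h4
      · right; linear_combination h4
  rw [← Set.ncard_univ, huniv, Set.ncard_coe_finset]
  have h01 : (0 : k) ≠ 1 := zero_ne_one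
  have h0m : (0 : k) ≠ -1 := by
    intro h; apply one_ne_zero (α := k); linear_combination h
  have h1m : (1 : k) ≠ -1 := by
    intro h; apply h2; linear_combination h
  rw [Finset.card_insert_of_notMem, Finset.card_insert_of_notMem, Finset.card_singleton]
  · rw [Finset.mem_singleton]; exact h1m
  · rw [Finset.mem_insert, Finset.mem_singleton]
    rintro (h | h)
    · exact h01 h
    · exact h0m h

theorem ev_e_comm (s r : M →ₗ[k] M) {E : k[X]} (p : k[X]) (y : M →ₗ[k] M) (hy : y * ev s r E = ev s r E * y) :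
    ev s r p * y * ev s r E = ev s r p * ev s r E * y := by
  rw [mul_assoc, hy, mul_assoc]

/-- words that reduce to `u(g)` -/
theorem word_up {s r : M →ₗ[k] M} (hs : s * s = 0) (hr : r * r = 0) {E W : k[X]} {n : ℕ} (hf : Fit s r E W n)
    {x : Matrix.SpecialLinearGroup (Fin 2) k[X] × LinearMap.GeneralLinearGroup k M} {a b c d : k[X]}
    (hx : Wd s r x a b c d) {g : k[X]} (hg : redm (II s r E) x.1 = upR (Ideal.Quotient.mk (II s r E) g)) :
    (x.2 : M →ₗ[k] M) * ev s r E = ev s r E + ev s r g * ev s r E * s := by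
  obtain ⟨x1, x2, x3, x4, x5⟩ := hx
  have h00 : Ideal.Quotient.mk (II s r E) (1 + a * X) = Ideal.Quotient.mk (II s r E) 1 := by
    rw [← x1, ← redm_apply, hg, upR_00, map_one]
  have h01 : Ideal.Quotient.mk (II s r E) b = Ideal.Quotient.mk (II s r E) g := by
    rw [← x2, ← redm_apply, hg, upR_01]
  have h10 : Ideal.Quotient.mk (II s r E) (c * X) = Ideal.Quotient.mk (II s r E) 0 := by
    rw [← x3, ← redm_apply, hg, upR_10, map_zero]
  have h11 : Ideal.Quotient.mk (II s r E) (1 + d * X) = Ideal.Quotient.mk (II s r E) 1 := by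
    rw [← x4, ← redm_apply, hg, upR_11, map_one]
  rw [mk_eq] at h00 h01 h10 h11
  have ha : ev s r a * ev s r E = 0 := hf.cancelX (by
    rw [map_add, add_mul, add_eq_left] at h00; exact h00)
  have hd : ev s r d * ev s r E = 0 := hf.cancelX (by
    rw [map_add, add_mul, add_eq_left] at h11; exact h11)
  have hc : ev s r c * ev s r E = 0 := hf.cancelX (by rw [h10, map_zero, zero_mul])
  have hse := s_ev (r := r) hs E
  have hre := r_ev (s := s) hr E
  have hsre : s * r * ev s r E = ev s r E * (s * r) := by rw [mul_assoc, hre, ← mul_assoc, hse, mul_assoc]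
  have hrse : r * s * ev s r E = ev s r E * (r * s) := by rw [mul_assoc, hse, ← mul_assoc, hre, mul_assoc]
  rw [x5, add_mul, add_mul, add_mul, add_mul, one_mul, ev_e_comm _ _ _ _ hsre, ev_e_comm _ _ _ _ hse,
    ev_e_comm _ _ _ _ hre, ev_e_comm _ _ _ _ hrse, ha, hc, hd, h01]
  simp

/-- words that reduce to `l(g X)` -/
theorem word_lo {s r : M →ₗ[k] M} (hs : s * s = 0) (hr : r * r = 0) {E W : k[X]} {n : ℕ} (hf : Fit s r E W n)
    {x : Matrix.SpecialLinearGroup (Fin 2) k[X] × LinearMap.GeneralLinearGroup k M} {a b c d : k[X]}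
    (hx : Wd s r x a b c d) {g : k[X]} (hg : redm (II s r E) x.1 = loR (Ideal.Quotient.mk (II s r E) (g * X))) :
    (x.2 : M →ₗ[k] M) * ev s r E = ev s r E + ev s r g * ev s r E * r := by
  obtain ⟨x1, x2, x3, x4, x5⟩ := hx
  have h00 : Ideal.Quotient.mk (II s r E) (1 + a * X) = Ideal.Quotient.mk (II s r E) 1 := by
    rw [← x1, ← redm_apply, hg, loR_00, map_one]
  have h01 : Ideal.Quotient.mk (II s r E) b = Ideal.Quotient.mk (II s r E) 0 := by
    rw [← x2, ← redm_apply, hg, loR_01, map_zero]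
  have h10 : Ideal.Quotient.mk (II s r E) (c * X) = Ideal.Quotient.mk (II s r E) (g * X) := by
    rw [← x3, ← redm_apply, hg, loR_10]
  have h11 : Ideal.Quotient.mk (II s r E) (1 + d * X) = Ideal.Quotient.mk (II s r E) 1 := by
    rw [← x4, ← redm_apply, hg, loR_11, map_one]
  rw [mk_eq] at h00 h01 h10 h11
  have ha : ev s r a * ev s r E = 0 := hf.cancelX (by
    rw [map_add, add_mul, add_eq_left] at h00; exact h00)
  have hd : ev s r d * ev s r E = 0 := hf.cancelX (by
    rw [map_add, add_mul, add_eq_left] at h11; exact h11)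
  have hc : ev s r c * ev s r E = ev s r g * ev s r E := by
    rw [← sub_eq_zero, ← sub_mul, ← map_sub]
    apply hf.cancelX
    rw [sub_mul, map_sub, sub_mul, h10, sub_self]
  rw [map_zero, zero_mul] at h01
  have hse := s_ev (r := r) hs E
  have hre := r_ev (s := s) hr E
  have hsre : s * r * ev s r E = ev s r E * (s * r) := by rw [mul_assoc, hre, ← mul_assoc, hse, mul_assoc]
  have hrse : r * s * ev s r E = ev s r E * (r * s) := by rw [mul_assoc, hse, ← mul_assoc, hre, mul_assoc]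
  rw [x5, add_mul, add_mul, add_mul, add_mul, one_mul, ev_e_comm _ _ _ _ hsre, ev_e_comm _ _ _ _ hse,
    ev_e_comm _ _ _ _ hre, ev_e_comm _ _ _ _ hrse, ha, hc, hd, h01]
  simp

/-- lifts of diagonal matrices -/
theorem diag_lift {s r : M →ₗ[k] M} (hs : s * s = 0) (hr : r * r = 0) {E : k[X]}
    (h1 : ∀ y : k[X] ⧸ II s r E, ∃ x ∈ TT s r hs hr, redm (II s r E) x.1 = upR y)
    (h2 : ∀ y : k[X] ⧸ II s r E, ∃ x ∈ TT s r hs hr, redm (II s r E) x.1 = loR y) {y w : k[X] ⧸ II s r E}
    (hyw : y * w = 1) : ∃ h ∈ TT s r hs hr,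
      (redm (II s r E) h.1 : Matrix (Fin 2) (Fin 2) (k[X] ⧸ II s r E)) 0 0 = y ∧
      (redm (II s r E) h.1 : Matrix (Fin 2) (Fin 2) (k[X] ⧸ II s r E)) 0 1 = 0 ∧
      (redm (II s r E) h.1 : Matrix (Fin 2) (Fin 2) (k[X] ⧸ II s r E)) 1 0 = 0 ∧
      (redm (II s r E) h.1 : Matrix (Fin 2) (Fin 2) (k[X] ⧸ II s r E)) 1 1 = w := by
  obtain ⟨x1, hx1, e1⟩ := h1 y
  obtain ⟨x2, hx2, e2⟩ := h2 (-w)
  obtain ⟨x3, hx3, e3⟩ := h1 (-1)
  obtain ⟨x4, hx4, e4⟩ := h2 1
  refine ⟨(x1 * x2 * x1) * (x3 * x4 * x3), Subgroup.mul_mem _ (Subgroup.mul_mem _ (Subgroup.mul_mem _ hx1 hx2) hx1)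
    (Subgroup.mul_mem _ (Subgroup.mul_mem _ hx3 hx4) hx3), ?_⟩
  simp only [Prod.fst_mul, map_mul, e1, e2, e3, e4]
  refine ⟨?_, ?_, ?_, ?_⟩ <;> simp only [slR_mul, loR_00, loR_01, loR_10, loR_11, upR_00, upR_01, upR_10, upR_11]
  · linear_combination -y * hyw
  · linear_combination hyw
  · linear_combination -hyw
  · ring

theorem core2 {G : Subgroup (LinearMap.GeneralLinearGroup k M)} (hk2 : ringChar k ≠ 2) (hk3 : Nat.card k ≠ 3)
    {s r : M →ₗ[k] M} (hs : RV G s) (hr : RV G r) {E W : k[X]} {n : ℕ} (hf : Fit s r E W n)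
    (h1 : ∀ y : k[X] ⧸ II s r E, ∃ x ∈ TT s r hs.1 hr.1, redm (II s r E) x.1 = upR y)
    (h2 : ∀ y : k[X] ⧸ II s r E, ∃ x ∈ TT s r hs.1 hr.1, redm (II s r E) x.1 = loR y) (f : k[X]) :
    RV G (ev s r f * ev s r E * s) ∧ RV G (ev s r f * ev s r E * r) := by
  obtain ⟨c, hc0, hc1⟩ := exists_sq_ne_one hk2 hk3
  have hcc : algebraMap k (k[X] ⧸ II s r E) c * algebraMap k (k[X] ⧸ II s r E) c⁻¹ = 1 := by
    rw [← map_mul, mul_inv_cancel₀ hc0, map_one]
  obtain ⟨h, hh, d00, d01, d10, d11⟩ := diag_lift hs.1 hr.1 h1 h2 hcc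
  obtain ⟨ha, hb, hc, hd, hW⟩ := TT_Wd hs.1 hr.1 hh
  have hW' := hW
  obtain ⟨x1, x2, x3, x4, x5⟩ := hW'
  have ee := hf.ee
  have hse := s_ev (r := r) hs.1 E
  have hre := r_ev (s := s) hr.1 E
  have f00 : ev s r (1 + ha * X) * ev s r E = c • ev s r E := by
    have : Ideal.Quotient.mk (II s r E) (1 + ha * X) = Ideal.Quotient.mk (II s r E) (C c) := by
      rw [← x1, ← redm_apply, d00]; rfl
    rw [mk_eq, ev_C, smul_mul_assoc, one_mul] at this
    exact this
  have f11 : ev s r (1 + hd * X) * ev s r E = c⁻¹ • ev s r E := by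
    have : Ideal.Quotient.mk (II s r E) (1 + hd * X) = Ideal.Quotient.mk (II s r E) (C c⁻¹) := by
      rw [← x4, ← redm_apply, d11]; rfl
    rw [mk_eq, ev_C, smul_mul_assoc, one_mul] at this
    exact this
  have f01 : ev s r hb * ev s r E = 0 := by
    have : Ideal.Quotient.mk (II s r E) hb = Ideal.Quotient.mk (II s r E) 0 := by
      rw [← x2, ← redm_apply, d01, map_zero]
    rw [mk_eq, map_zero, zero_mul] at this
    exact this
  have f10 : ev s r hc * ev s r E = 0 := by
    apply hf.cancelX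
    have : Ideal.Quotient.mk (II s r E) (hc * X) = Ideal.Quotient.mk (II s r E) 0 := by
      rw [← x3, ← redm_apply, d10, map_zero]
    rw [mk_eq, map_zero, zero_mul] at this
    exact this
  -- `h` commutes with polynomials in `z`
  have hcomm : ∀ p : k[X], cj h.2 (ev s r p) = ev s r p := by
    intro p
    have h3 : (h.2 : M →ₗ[k] M) * ev s r p = ev s r p * (h.2 : M →ₗ[k] M) := by
      rw [x5]
      have f : ∀ q : k[X], ev s r q * ev s r p = ev s r p * ev s r q := fun q => ev_comm s r q p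
      have g1 := s_ev (r := r) hs.1 p
      have g2 := r_ev (s := s) hr.1 p
      simp only [add_mul, mul_add, one_mul, mul_one]
      rw [mul_assoc, mul_assoc s r, g2, ← mul_assoc s _ r, g1, mul_assoc, ← mul_assoc (ev s r ha) (ev s r p), f,
        mul_assoc (ev s r p),
        mul_assoc (ev s r hb), g1, ← mul_assoc (ev s r hb), f, mul_assoc (ev s r p), mul_assoc (ev s r hc), g2,
        ← mul_assoc (ev s r hc), f, mul_assoc (ev s r p), mul_assoc (ev s r hd), mul_assoc r s, g1, ← mul_assoc r _ s, g2,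
        mul_assoc _ r s, ← mul_assoc (ev s r hd) (ev s r p), f, mul_assoc (ev s r p)]
    unfold cj
    rw [h3, mul_assoc, val_mul_inv', mul_one]
  have cs : cj h.2 s * ev s r E = (c ^ 2) • (ev s r E * s) := by
    rw [Wd_cj_s hs.1 hr.1 hW]
    have hsre : s * r * ev s r E = ev s r E * (s * r) := by rw [mul_assoc, hre, ← mul_assoc, hse, mul_assoc]
    have hrse : r * s * ev s r E = ev s r E * (r * s) := by rw [mul_assoc, hse, ← mul_assoc, hre, mul_assoc]
    have e1 : (r * s - s * r) * ev s r E = ev s r E * (r * s - s * r) := by rw [sub_mul, mul_sub, hsre, hrse]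
    rw [sub_mul, add_mul, ev_e_comm _ _ _ _ hse, ev_e_comm _ _ _ _ e1, ev_e_comm _ _ _ _ hre]
    have e2 : ev s r ((1 + ha * X) ^ 2) * ev s r E = (c ^ 2) • ev s r E := by
      rw [pow_two, map_mul, mul_assoc, f00, mul_smul_comm, f00, smul_smul, pow_two]
    have e3 : ev s r ((1 + ha * X) * hc) * ev s r E = 0 := by rw [map_mul, mul_assoc, f10, mul_zero]
    have e4 : ev s r (hc ^ 2 * X) * ev s r E = 0 := by
      have : hc ^ 2 * X = (hc * X) * hc := by ring
      rw [this, map_mul, mul_assoc, f10, mul_zero]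
    rw [e2, e3, e4, zero_mul, zero_mul, smul_mul_assoc]; simp
  have cr : cj h.2 r * ev s r E = (c⁻¹ ^ 2) • (ev s r E * r) := by
    rw [Wd_cj_r hs.1 hr.1 hW]
    have hsre : s * r * ev s r E = ev s r E * (s * r) := by rw [mul_assoc, hre, ← mul_assoc, hse, mul_assoc]
    have hrse : r * s * ev s r E = ev s r E * (r * s) := by rw [mul_assoc, hse, ← mul_assoc, hre, mul_assoc]
    have e1 : (s * r - r * s) * ev s r E = ev s r E * (s * r - r * s) := by rw [sub_mul, mul_sub, hsre, hrse]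
    rw [sub_mul, add_mul, ev_e_comm _ _ _ _ hre, ev_e_comm _ _ _ _ e1, ev_e_comm _ _ _ _ hse]
    have e2 : ev s r ((1 + hd * X) ^ 2) * ev s r E = (c⁻¹ ^ 2) • ev s r E := by
      rw [pow_two, map_mul, mul_assoc, f11, mul_smul_comm, f11, smul_smul, pow_two]
    have e3 : ev s r ((1 + hd * X) * hb) * ev s r E = 0 := by rw [map_mul, mul_assoc, f01, mul_zero]
    have e4 : ev s r (hb ^ 2 * X) * ev s r E = 0 := by
      have : hb ^ 2 * X = (hb * X) * hb := by ring
      rw [this, map_mul, mul_assoc, f01, mul_zero]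
    rw [e2, e3, e4, zero_mul, zero_mul, smul_mul_assoc]; simp
  have hl : c ^ 2 - 1 ≠ 0 := sub_ne_zero.2 hc1
  have hl' : c⁻¹ ^ 2 - 1 ≠ 0 := by
    rw [sub_ne_zero, inv_pow]
    intro h3
    exact hc1 (inv_eq_one.1 h3)
  -- squares vanish
  have sq_s : ∀ g : k[X], (ev s r g * ev s r E * s) * (ev s r g * ev s r E * s) = 0 := by
    intro g
    have : (ev s r g * ev s r E * s) * (ev s r g * ev s r E * s) = ev s r g * ev s r E * (s * (ev s r g * ev s r E)) * s := by
      noncomm_ring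
    rw [this, ← map_mul, s_ev hs.1, mul_assoc _ _ s, mul_assoc _ s s, hs.1, mul_zero, mul_zero]
  have sq_r : ∀ g : k[X], (ev s r g * ev s r E * r) * (ev s r g * ev s r E * r) = 0 := by
    intro g
    have : (ev s r g * ev s r E * r) * (ev s r g * ev s r E * r) = ev s r g * ev s r E * (r * (ev s r g * ev s r E)) * r := by
      noncomm_ring
    rw [this, ← map_mul, r_ev hr.1, mul_assoc _ _ r, mul_assoc _ r r, hr.1, mul_zero, mul_zero]
  constructor
  · refine ⟨sq_s f, fun κ => ?_⟩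
    set g : k[X] := C (κ * ((c ^ 2 - 1) ^ (2 * n))⁻¹) * f with hg
    have hgy : ev s r g * ev s r E * s = (κ * ((c ^ 2 - 1) ^ (2 * n))⁻¹) • (ev s r f * ev s r E * s) := by
      rw [hg, map_mul, ev_C, smul_mul_assoc, one_mul, smul_mul_assoc, smul_mul_assoc]
    obtain ⟨w, hw, hwg⟩ := h1 (Ideal.Quotient.mk _ g)
    obtain ⟨a', b', c', d', hW'⟩ := TT_Wd hs.1 hr.1 hw
    have e1 := word_up hs.1 hr.1 hf hW' hwg
    have e2 : cj h.2 (ev s r g * ev s r E * s) = (1 + (c ^ 2 - 1)) • (ev s r g * ev s r E * s) := by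
      rw [cj_mul, cj_mul, hcomm, hcomm, mul_assoc, mul_assoc]
      have e3 : ev s r E * cj h.2 s = (c ^ 2) • (ev s r E * s) := by
        rw [← cs]
        have : cj h.2 (ev s r E * s) = cj h.2 (s * ev s r E) := by rw [hse]
        rw [cj_mul, cj_mul, hcomm] at this
        exact this
      rw [e3, mul_smul_comm]; congr 1; ring
    obtain ⟨g', hg', hg''⟩ := kill hs hr hf hh hw (sq_s g)
      (by rw [mul_assoc, hse]; simp only [mul_assoc]; rw [← mul_assoc (ev s r E) (ev s r E), ee])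
      (by rw [← mul_assoc, ← mul_assoc, ev_comm s r E g, mul_assoc (ev s r g), ee]) e1 e2
    refine ⟨g', hg', ?_⟩
    rw [hg'', hgy, smul_smul]
    congr 2
    field_simp
  · refine ⟨sq_r f, fun κ => ?_⟩
    set g : k[X] := C (κ * ((c⁻¹ ^ 2 - 1) ^ (2 * n))⁻¹) * f with hg
    have hgy : ev s r g * ev s r E * r = (κ * ((c⁻¹ ^ 2 - 1) ^ (2 * n))⁻¹) • (ev s r f * ev s r E * r) := by
      rw [hg, map_mul, ev_C, smul_mul_assoc, one_mul, smul_mul_assoc, smul_mul_assoc]
    obtain ⟨w, hw, hwg⟩ := h2 (Ideal.Quotient.mk _ (g * X))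
    obtain ⟨a', b', c', d', hW'⟩ := TT_Wd hs.1 hr.1 hw
    have e1 := word_lo hs.1 hr.1 hf hW' hwg
    have e2 : cj h.2 (ev s r g * ev s r E * r) = (1 + (c⁻¹ ^ 2 - 1)) • (ev s r g * ev s r E * r) := by
      rw [cj_mul, cj_mul, hcomm, hcomm, mul_assoc, mul_assoc]
      have e3 : ev s r E * cj h.2 r = (c⁻¹ ^ 2) • (ev s r E * r) := by
        rw [← cr]
        have : cj h.2 (ev s r E * r) = cj h.2 (r * ev s r E) := by rw [hre]
        rw [cj_mul, cj_mul, hcomm] at this
        exact this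
      rw [e3, mul_smul_comm]; congr 1; ring
    obtain ⟨g', hg', hg''⟩ := kill hs hr hf hh hw (sq_r g)
      (by rw [mul_assoc, hre]; simp only [mul_assoc]; rw [← mul_assoc (ev s r E) (ev s r E), ee])
      (by rw [← mul_assoc, ← mul_assoc, ev_comm s r E g, mul_assoc (ev s r g), ee]) e1 e2
    refine ⟨g', hg', ?_⟩
    rw [hg'', hgy, smul_smul]
    congr 2
    have := pow_ne_zero (2 * n) hl'
    field_simp

end Cfsg.Agent.H731
end

-- part: H731/QuadT2
section
set_option autoImplicit false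
open Cfsg Polynomial

namespace Cfsg.Agent.H731

variable {k : Type*} [Field k] {M : Type*} [AddCommGroup M] [Module k M]

/-- the rank of an endomorphism -/
noncomputable def rk (y : M →ₗ[k] M) : ℕ := Module.finrank k (LinearMap.range y)

theorem range_mul_le (x y : M →ₗ[k] M) : LinearMap.range (x * y) ≤ LinearMap.range x := by
  rintro _ ⟨v, rfl⟩
  exact ⟨y v, rfl⟩

theorem rk_mul_le_left [FiniteDimensional k M] (x y : M →ₗ[k] M) : rk (x * y) ≤ rk x :=
  Submodule.finrank_mono (range_mul_le x y)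

theorem finrank_map_add_inf [FiniteDimensional k M] (x : M →ₗ[k] M) (N : Submodule k M) :
    Module.finrank k (N.map x) + Module.finrank k (N ⊓ LinearMap.ker x : Submodule k M) = Module.finrank k N := by
  have h := LinearMap.finrank_range_add_finrank_ker (x.domRestrict N)
  have h1 : LinearMap.range (x.domRestrict N) = N.map x := by
    rw [LinearMap.range_domRestrict]
  have h2 : Module.finrank k (LinearMap.ker (x.domRestrict N)) = Module.finrank k (N ⊓ LinearMap.ker x : Submodule k M) := by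
    have h3 : (LinearMap.ker (x.domRestrict N)).map N.subtype = N ⊓ LinearMap.ker x := by
      ext v
      constructor
      · rintro ⟨⟨w, hw⟩, hw2, rfl⟩
        exact ⟨hw, hw2⟩
      · rintro ⟨hv, hv2⟩
        exact ⟨⟨v, hv⟩, hv2, rfl⟩
    rw [← h3]
    exact (Submodule.equivMapOfInjective N.subtype (Submodule.injective_subtype N) _).finrank_eq
  rw [h1, h2] at h
  exact h

theorem range_mul (x y : M →ₗ[k] M) : LinearMap.range (x * y) = (LinearMap.range y).map x := by
  rw [Module.End.mul_eq_comp, LinearMap.range_comp]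

theorem rk_mul_le_right [FiniteDimensional k M] (x y : M →ₗ[k] M) : rk (x * y) ≤ rk y := by
  unfold rk
  rw [range_mul]
  have := finrank_map_add_inf x (LinearMap.range y)
  omega

theorem rk_add_le [FiniteDimensional k M] (x y : M →ₗ[k] M) : rk (x + y) ≤ rk x + rk y := by
  unfold rk
  refine (Submodule.finrank_mono ?_).trans (Submodule.finrank_add_le_finrank_add_finrank _ _)
  rintro _ ⟨v, rfl⟩
  rw [LinearMap.add_apply]
  exact Submodule.add_mem_sup ⟨v, rfl⟩ ⟨v, rfl⟩

theorem rk_neg (x : M →ₗ[k] M) : rk (-x) = rk x := by unfold rk; rw [LinearMap.range_neg]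

theorem rk_sub_le [FiniteDimensional k M] (x y : M →ₗ[k] M) : rk (x - y) ≤ rk x + rk y := by
  rw [sub_eq_add_neg, ← rk_neg y]; exact rk_add_le x (-y)

theorem rk_split_ge [FiniteDimensional k M] {e x : M →ₗ[k] M} (hee : e * e = e) (hex : x * e = e * x) :
    rk (e * x) + rk ((1 - e) * x) ≤ rk x := by
  have h1 : LinearMap.range (e * x) ⊓ LinearMap.range ((1 - e) * x) = ⊥ := by
    rw [eq_bot_iff]
    rintro v ⟨⟨a, ha⟩, ⟨b, hb⟩⟩
    rw [Submodule.mem_bot]
    have e1 : e v = v := by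
      rw [← ha, ← Module.End.mul_apply, ← mul_assoc, hee]
    have e2 : e v = 0 := by
      rw [← hb, ← Module.End.mul_apply, ← mul_assoc, mul_sub, hee, mul_one, sub_self, zero_mul, LinearMap.zero_apply]
    rw [← e1, e2]
  have h2 := Submodule.finrank_sup_add_finrank_inf_eq (LinearMap.range (e * x)) (LinearMap.range ((1 - e) * x))
  rw [h1, finrank_bot, add_zero] at h2
  unfold rk
  rw [← h2]
  apply Submodule.finrank_mono
  apply sup_le
  · rw [← hex]; exact range_mul_le x e
  · have : (1 - e) * x = x * (1 - e) := by rw [sub_mul, mul_sub, one_mul, mul_one, hex]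
    rw [this]; exact range_mul_le x _

theorem rk_split_le [FiniteDimensional k M] (e x : M →ₗ[k] M) :
    rk x ≤ rk (e * x) + rk ((1 - e) * x) := by
  have : x = e * x + (1 - e) * x := by rw [sub_mul, one_mul]; abel
  conv_lhs => rw [this]
  exact rk_add_le _ _

theorem rk_pair [FiniteDimensional k M] {a b : M →ₗ[k] M} (h : b * a * b = 0) : rk (a * b) + rk (b * a) ≤ rk a := by
  have h1 := finrank_map_add_inf b (LinearMap.range a)
  unfold rk
  rw [range_mul b a, ← h1, add_comm]
  apply Nat.add_le_add_left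
  apply Submodule.finrank_mono
  rintro _ ⟨v, rfl⟩
  refine ⟨range_mul_le a b ⟨v, rfl⟩, ?_⟩
  change b ((a * b) v) = 0
  rw [← Module.End.mul_apply, ← mul_assoc, h, LinearMap.zero_apply]

/-- units in the residue ring from injectivity -/
theorem unit_of_inj [FiniteDimensional k M] {s r : M →ₗ[k] M} (hs : s * s = 0) (hr : r * r = 0) {E W : k[X]} {n : ℕ}
    (hf : Fit s r E W n) {p : k[X]} (hp : ∀ v, ev s r p ((ev s r E * s) v) = 0 → (ev s r E * s) v = 0) :
    IsUnit (Ideal.Quotient.mk (II s r E) p) := by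
  haveI : FiniteDimensional k (k[X] ⧸ II s r E) := finite_quot s r E (le_refl _)
  haveI : IsArtinianRing (k[X] ⧸ II s r E) := isArtinian_of_tower k inferInstance
  apply IsArtinianRing.isUnit_of_mem_nonZeroDivisors
  rw [mem_nonZeroDivisors_iff_right]
  intro y hy
  obtain ⟨q, rfl⟩ := Ideal.Quotient.mk_surjective y
  rw [← map_mul, Ideal.Quotient.eq_zero_iff_mem, mem_II, map_mul] at hy
  rw [Ideal.Quotient.eq_zero_iff_mem, mem_II]
  apply hf.of_s hs hr
  ext v
  rw [LinearMap.zero_apply]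
  have e1 : ev s r q * ev s r E * s = ev s r E * s * ev s r q := by
    rw [mul_assoc _ s, s_ev hs, ← mul_assoc, ev_comm s r E]
  rw [e1, Module.End.mul_apply]
  apply hp
  have e2 : ev s r p ((ev s r E * s) (ev s r q v)) = (ev s r q * ev s r p * ev s r E * s) v := by
    rw [← Module.End.mul_apply, ← Module.End.mul_apply]
    congr 1
    rw [mul_assoc, ← e1, ← mul_assoc, ← mul_assoc, ev_comm s r p q]
  rw [e2, hy, zero_mul, LinearMap.zero_apply]

/-- the pair `(s, s^x)` -/
theorem pair_facts {s r : M →ₗ[k] M} (hs : s * s = 0) (hr : r * r = 0)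
    {x : Matrix.SpecialLinearGroup (Fin 2) k[X] × LinearMap.GeneralLinearGroup k M} {a b c d : k[X]}
    (hx : Wd s r x a b c d) :
    zz s (cj x.2 s) = -(ev s r (c * X) * ev s r (c * X)) ∧
    s * cj x.2 s - cj x.2 s * s = (2 : k) • (ev s r ((1 + a * X) * (c * X)) * s) - ev s r (c ^ 2 * X) * (s * r - r * s) := by
  have h0 := Wd_cj_s hs hr hx
  set P := (1 + a * X) with hP
  have zs : s * r * s = zz s r * s := by
    unfold zz; rw [add_mul, mul_assoc r s s, hs, mul_zero, add_zero]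
  have e1 : s * cj x.2 s = ev s r (P * (c * X)) * s - ev s r (c ^ 2 * X) * (s * r) := by
    rw [h0, mul_sub, mul_add, ← mul_assoc, s_ev hs, mul_assoc _ s s, hs, mul_zero, zero_add, ← mul_assoc s, s_ev hs,
      mul_assoc _ s, mul_sub s, ← mul_assoc s s r, hs, zero_mul, sub_zero, ← mul_assoc s (ev s r (c ^ 2 * X)), s_ev hs,
      mul_assoc _ s r, ← mul_assoc s r s, zs, ← mul_assoc, ← ev_X, ← map_mul]
    congr 3; ring
  have e2 : cj x.2 s * s = -(ev s r (P * (c * X)) * s) - ev s r (c ^ 2 * X) * (r * s) := by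
    rw [h0, sub_mul, add_mul, mul_assoc _ s s, hs, mul_zero, zero_add, mul_assoc _ _ s, sub_mul (r * s), mul_assoc r s s,
      hs, mul_zero, zero_sub, zs, mul_neg, ← mul_assoc, ← ev_X, ← map_mul, mul_assoc _ r s]
    congr 4; ring
  constructor
  · have e3 : zz s (cj x.2 s) = -(ev s r (c ^ 2 * X) * zz s r) := by
      conv_lhs => unfold zz
      rw [e1, e2]
      unfold zz
      noncomm_ring
    rw [e3, ← ev_X, ← map_mul, ← map_mul]
    congr 2; ring
  · rw [e1, e2, two_smul]; noncomm_ring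

theorem Wd_comm {s r : M →ₗ[k] M} (hs : s * s = 0) (hr : r * r = 0)
    {x : Matrix.SpecialLinearGroup (Fin 2) k[X] × LinearMap.GeneralLinearGroup k M} {a b c d : k[X]}
    (hx : Wd s r x a b c d) (p : k[X]) : (x.2 : M →ₗ[k] M) * ev s r p = ev s r p * (x.2 : M →ₗ[k] M) := by
  rw [hx.2.2.2.2]
  have f : ∀ q : k[X], ev s r q * ev s r p = ev s r p * ev s r q := fun q => ev_comm s r q p
  have g1 := s_ev (r := r) hs p
  have g2 := r_ev (s := s) hr p
  simp only [add_mul, mul_add, one_mul, mul_one]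
  rw [mul_assoc, mul_assoc s r, g2, ← mul_assoc s _ r, g1, mul_assoc, ← mul_assoc (ev s r a) (ev s r p), f,
    mul_assoc (ev s r p),
    mul_assoc (ev s r b), g1, ← mul_assoc (ev s r b), f, mul_assoc (ev s r p), mul_assoc (ev s r c), g2,
    ← mul_assoc (ev s r c), f, mul_assoc (ev s r p), mul_assoc (ev s r d), mul_assoc r s, g1, ← mul_assoc r _ s, g2,
    mul_assoc _ r s, ← mul_assoc (ev s r d) (ev s r p), f, mul_assoc (ev s r p)]

theorem cj_ev_comm {s r : M →ₗ[k] M} (hs : s * s = 0) (hr : r * r = 0)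
    {x : Matrix.SpecialLinearGroup (Fin 2) k[X] × LinearMap.GeneralLinearGroup k M} {a b c d : k[X]}
    (hx : Wd s r x a b c d) {p : k[X]} {y : M →ₗ[k] M} (hy : y * ev s r p = ev s r p * y) :
    cj x.2 y * ev s r p = ev s r p * cj x.2 y := by
  have h1 := Wd_comm hs hr hx p
  have h2 := Wd_comm hs hr (Wd_inv hs hr hx) p
  rw [Prod.snd_inv] at h2
  unfold cj
  rw [mul_assoc, h2, ← mul_assoc, mul_assoc _ y, hy, ← mul_assoc, h1]; noncomm_ring

theorem hq_step [FiniteDimensional k M] {G : Subgroup (LinearMap.GeneralLinearGroup k M)} (hk2 : ringChar k ≠ 2)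
    {s r : M →ₗ[k] M} (hs : MRV G s) (hr : RV G r) {E W : k[X]} {n : ℕ} (hf : Fit s r E W n)
    (hne : ev s r E ≠ 0)
    (hIH : ∀ s' : M →ₗ[k] M, RV G s' → ¬ IsNilpotent (zz s s') → rk (zz s s' * s) < rk (zz s r * s) →
      ∃ P : k[X], ev s s' P * zz s s' * s = s)
    {x : Matrix.SpecialLinearGroup (Fin 2) k[X] × LinearMap.GeneralLinearGroup k M} (hx : x ∈ TT s r hs.1.1 hr.1) :
    Ideal.Quotient.mk (II s r E) ((x.1 : Matrix (Fin 2) (Fin 2) k[X]) 1 0) = 0 ∨
      IsUnit (Ideal.Quotient.mk (II s r E) ((x.1 : Matrix (Fin 2) (Fin 2) k[X]) 1 0)) := by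
  have hss := hs.1.1
  have hrr := hr.1
  have h2 : (2 : k) ≠ 0 := Ring.two_ne_zero hk2
  obtain ⟨a, b, c, d, hW⟩ := TT_Wd hss hrr hx
  obtain ⟨f1, f2⟩ := pair_facts hss hrr hW
  have hsx : MRV G (cj x.2 s) := MRV_cj hs (TT_mem hs.1 hr hx)
  set s' := cj x.2 s with hs'
  obtain ⟨x1, x2, x3, x4, x5⟩ := hW
  rw [x3]
  have ee := hf.ee
  have hse := s_ev (r := r) hss E
  by_cases hnil : IsNilpotent (zz s s')
  · left
    -- the nilpotent case
    have hn1 : IsNilpotent (s * s') := nilpotent_mul_of_nilpotent_z hss hsx.1.1 hnil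
    have hn2 : IsNilpotent (s' * s) := nilpotent_mul_of_nilpotent_z hsx.1.1 hss (by
      have : s' * s + s * s' = zz s s' := by unfold zz; abel
      rw [this]; exact hnil)
    have t1 : s * s' * s = 0 := T1' hk2 hs hsx.1 hn1
    have t2 : s' * s * s' = 0 := T1' hk2 hsx hs.1 hn2
    have q2s : ev s r (c * X) * ev s r (c * X) * s = 0 := by
      have h3 : zz s s' * s = 0 := by
        unfold zz; rw [add_mul, t1, mul_assoc, hss, mul_zero, add_zero]
      rw [f1, neg_mul, neg_eq_zero] at h3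
      exact h3
    set l := s * s' - s' * s with hl
    have hlRV : RV G l := by
      have g1 : RV G (cj (tv s hss) s') := RV_cj hsx.1 (RV_mem_one hs.1)
      rw [cj_tv, t1, sub_zero, ← hl] at g1
      have ls' : l * s' = 0 := by rw [hl, sub_mul, mul_assoc, hsx.1.1, mul_zero, t2, sub_zero]
      have s'l : s' * l = 0 := by rw [hl, mul_sub, ← mul_assoc, ← mul_assoc, t2, hsx.1.1, zero_mul, sub_zero]
      have g2 := RV_sub g1 hsx.1 (by rw [add_mul, ls', hsx.1.1, add_zero]) (by rw [mul_add, s'l, hsx.1.1, add_zero])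
      rwa [add_sub_cancel_left] at g2
    -- on the invertible part
    have hcr : ev s r (c ^ 2 * X) * (s * r - r * s) * ev s r E = 0 := by
      have k1 : ev s r E * ev s r (c ^ 2 * X) * s = 0 := by
        have : ev s r E * ev s r (c ^ 2 * X) * s = ev s r W * ev s r E * (ev s r (c * X) * ev s r (c * X) * s) := by
          have e1 : ev s r E * ev s r (c ^ 2 * X) = ev s r W * ev s r E * (ev s r (c * X) * ev s r (c * X)) := by
            have e2 : ev s r E * ev s r (c ^ 2 * X) = (ev s r (W * X) * ev s r E) * ev s r (c ^ 2 * X) := by rw [hf.W_X]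
            rw [e2]; simp only [← map_mul]; congr 1; ring
          rw [e1]; noncomm_ring
        rw [this, q2s, mul_zero]
      have hsre : s * r * ev s r E = ev s r E * (s * r) := by
        rw [mul_assoc, r_ev hrr, ← mul_assoc, hse, mul_assoc]
      have hrse : r * s * ev s r E = ev s r E * (r * s) := by
        rw [mul_assoc, hse, ← mul_assoc, r_ev hrr, mul_assoc]
      have e1 : ev s r (c ^ 2 * X) * (s * r - r * s) * ev s r E =
          (ev s r E * ev s r (c ^ 2 * X) * s) * r - r * (ev s r E * ev s r (c ^ 2 * X) * s) := by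
        have e2 : r * (ev s r E * ev s r (c ^ 2 * X) * s) = ev s r E * ev s r (c ^ 2 * X) * (r * s) := by
          rw [← map_mul, ← mul_assoc, r_ev hrr, mul_assoc]
        rw [e2, mul_assoc, sub_mul, hsre, hrse, ← mul_sub, ← mul_assoc, ev_comm s r _ E]
        noncomm_ring
      rw [e1, k1]; simp
    have hel : ev s r E * l = ev s r (c * X) * (ev s r E * s) * ((2 : k) • ev s r (1 + a * X)) := by
      have e0 : ev s r E * l = l * ev s r E := by
        have c1 : ev s r E * s' = s' * ev s r E := by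
          rw [hs']; exact (cj_ev_comm hss hrr ⟨x1, x2, x3, x4, x5⟩ (s_ev hss E)).symm
        rw [hl, mul_sub, sub_mul, ← mul_assoc, ← mul_assoc, ← hse, mul_assoc, c1, mul_assoc, mul_assoc s' s, hse,
          mul_assoc]
      rw [e0, f2, sub_mul, hcr, sub_zero, smul_mul_assoc, mul_assoc _ s, hse, mul_smul_comm]
      congr 1
      have e5 : ev s r (c * X) * (ev s r E * s) * ev s r (1 + a * X) =
          (ev s r (c * X) * ev s r E * ev s r (1 + a * X)) * s := by
        rw [mul_assoc, mul_assoc _ s, s_ev hss]; noncomm_ring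
      have e6 : ev s r ((1 + a * X) * (c * X)) * (ev s r E * s) = (ev s r ((1 + a * X) * (c * X)) * ev s r E) * s := by
        rw [mul_assoc]
      rw [e5, e6, ← map_mul, ← map_mul, ← map_mul]
      congr 2; ring
    have hesne : ev s r E * s ≠ 0 := by
      intro h0
      apply hne
      have := hf.of_s hss hrr (p := 1) (by rw [map_one, one_mul]; exact h0)
      rwa [map_one, one_mul] at this
    have hrk1 : rk (ev s r E * l) < rk (ev s r E * s) := by
      rw [hel]
      refine (rk_mul_le_left _ _).trans_lt ?_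
      by_contra hcon
      push Not at hcon
      have hc1 : ev s r (c * X) * (ev s r E * s) = (ev s r E * s) * ev s r (c * X) := by
        rw [mul_assoc _ s, s_ev hss, ← mul_assoc, ← mul_assoc, ev_comm s r (c * X)]
      have hle : LinearMap.range (ev s r (c * X) * (ev s r E * s)) ≤ LinearMap.range (ev s r E * s) := by
        rw [hc1]; exact range_mul_le _ _
      have heq := Submodule.eq_of_le_of_finrank_le hle hcon
      apply hesne
      ext v
      rw [LinearMap.zero_apply]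
      have m1 : (ev s r E * s) v ∈ LinearMap.range (ev s r (c * X) * (ev s r E * s)) := by rw [heq]; exact ⟨v, rfl⟩
      obtain ⟨w, hw⟩ := m1
      have m2 : (ev s r E * s) w ∈ LinearMap.range (ev s r (c * X) * (ev s r E * s)) := by rw [heq]; exact ⟨w, rfl⟩
      obtain ⟨u, hu⟩ := m2
      rw [← hw, Module.End.mul_apply, ← hu, ← Module.End.mul_apply, ← mul_assoc]
      have e7 : ev s r (c * X) * ev s r (c * X) * (ev s r E * s) = ev s r E * (ev s r (c * X) * ev s r (c * X) * s) := by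
        rw [← mul_assoc, ← mul_assoc (ev s r E), ← map_mul, ← map_mul, ← map_mul]; congr 2; ring
      rw [e7, q2s, mul_zero, LinearMap.zero_apply]
    have hrk2 : rk ((1 - ev s r E) * l) ≤ rk ((1 - ev s r E) * s) := by
      have c1 : s' * (1 - ev s r E) = (1 - ev s r E) * s' := by
        have c1 : ev s r E * s' = s' * ev s r E := by
          rw [hs']; exact (cj_ev_comm hss hrr ⟨x1, x2, x3, x4, x5⟩ (s_ev hss E)).symm
        rw [mul_sub, sub_mul, c1, mul_one, one_mul]
      have e1 : (1 - ev s r E) * l = ((1 - ev s r E) * s) * s' - s' * ((1 - ev s r E) * s) := by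
        rw [← mul_assoc s', c1, hl]; noncomm_ring
      rw [e1]
      refine (rk_sub_le _ _).trans (rk_pair ?_)
      rw [← mul_assoc s', c1, mul_assoc, mul_assoc, ← mul_assoc s' s, t2, mul_zero]
    have hl0 : l = 0 := by
      apply MRV_eq_zero_of_lt hs hlRV
      have h3 := rk_split_le (ev s r E) l
      have h4 := rk_split_ge (x := s) ee hse
      change rk l < rk s
      omega
    rw [hl0, mul_zero] at hel
    have h5 : ev s r (c * X) * (ev s r E * s) * ev s r (1 + a * X) = 0 := by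
      rw [mul_smul_comm] at hel
      exact (smul_eq_zero.1 hel.symm).resolve_left h2
    have hdet := slR_det x.1
    rw [x1, x2, x3, x4] at hdet
    rw [Ideal.Quotient.eq_zero_iff_mem, mem_II]
    apply hf.of_s hss hrr
    have h6 : ev s r (c * X) * ev s r E * s =
        (ev s r (c * X) * (ev s r E * s) * ev s r (1 + a * X)) * ev s r (1 + d * X) -
          ev s r b * ev s r E * (ev s r (c * X) * ev s r (c * X) * s) := by
      have e5 : ev s r (c * X) * (ev s r E * s) * ev s r (1 + a * X) * ev s r (1 + d * X) =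
          (ev s r (c * X) * ev s r E * ev s r ((1 + a * X) * (1 + d * X))) * s := by
        rw [mul_assoc _ (ev s r (1 + a * X)), ← map_mul, mul_assoc, mul_assoc _ s, s_ev hss]; noncomm_ring
      have e6 : ev s r b * ev s r E * (ev s r (c * X) * ev s r (c * X) * s) =
          (ev s r b * ev s r E * (ev s r (c * X) * ev s r (c * X))) * s := by noncomm_ring
      rw [e5, e6, ← sub_mul]
      simp only [← map_mul, ← map_sub]
      congr 2
      linear_combination (-(c * X * E)) * hdet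
    rw [h6, h5, q2s]; simp
  · right
    have hqinj : (∀ v, ev s r (c * X) ((ev s r E * s) v) = 0 → (ev s r E * s) v = 0) := by
      rcases lt_or_ge (rk (zz s s' * s)) (rk (zz s r * s)) with hlt | hge
      · obtain ⟨P, hP⟩ := hIH s' hsx.1 hnil hlt
        intro v hv
        rw [← hse] at hv ⊢
        have e1 : (s * ev s r E) v = (ev s s' P * zz s s' * s) (ev s r E v) := by rw [hP]; rfl
        rw [e1]
        have e2 : (ev s s' P * zz s s' * s) (ev s r E v) = ev s s' P (-(ev s r (c * X) (ev s r (c * X) ((s * ev s r E) v)))) := by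
          rw [f1]; rfl
        rw [e2, hv, map_zero, neg_zero, map_zero]
      · -- equal ranks
        have e1 : zz s s' * s = (-(ev s r (c ^ 2 * X))) * (zz s r * s) := by
          rw [f1, ← ev_X, neg_mul, neg_mul, ← mul_assoc, ← map_mul, ← map_mul]; congr 3; ring
        have h3 := finrank_map_add_inf (-(ev s r (c ^ 2 * X))) (LinearMap.range (zz s r * s))
        rw [← range_mul, ← e1] at h3
        have h4 : Module.finrank k (LinearMap.range (zz s r * s) ⊓ LinearMap.ker (-(ev s r (c ^ 2 * X))) : Submodule k M) = 0 := by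
          unfold rk at hge; omega
        rw [Submodule.finrank_eq_zero] at h4
        intro v hv
        have e2 : (ev s r E * s) v ∈ (LinearMap.range (zz s r * s) ⊓ LinearMap.ker (-(ev s r (c ^ 2 * X))) : Submodule k M) := by
          constructor
          · refine ⟨(ev s r W * ev s r E) v, ?_⟩
            rw [← Module.End.mul_apply]
            congr 1
            rw [mul_assoc, ← map_mul, s_ev hss, ← mul_assoc, ← ev_X, ← map_mul]
            have : X * (W * E) = W * X * E := by ring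
            rw [this, map_mul, hf.W_X]
          · change (-(ev s r (c ^ 2 * X))) ((ev s r E * s) v) = 0
            rw [LinearMap.neg_apply, neg_eq_zero]
            have : c ^ 2 * X = c * (c * X) := by ring
            rw [this, map_mul, Module.End.mul_apply, hv, map_zero]
        rw [h4] at e2
        exact (Submodule.mem_bot k).1 e2
    exact unit_of_inj hss hrr hf hqinj

theorem finish [FiniteDimensional k M] {G : Subgroup (LinearMap.GeneralLinearGroup k M)} (hk2 : ringChar k ≠ 2)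
    (hk3 : Nat.card k ≠ 3) {s r : M →ₗ[k] M} (hs : MRV G s) (hr : RV G r) {E W : k[X]} {n : ℕ} (hf : Fit s r E W n)
    (hne : ev s r E ≠ 0)
    (hq : ∀ x ∈ TT s r hs.1.1 hr.1, Ideal.Quotient.mk (II s r E) ((x.1 : Matrix (Fin 2) (Fin 2) k[X]) 1 0) = 0 ∨
      IsUnit (Ideal.Quotient.mk (II s r E) ((x.1 : Matrix (Fin 2) (Fin 2) k[X]) 1 0))) :
    ev s r E * s = s := by
  obtain ⟨-, g2, g3⟩ := core1 hk2 hk3 hs.1.1 hr.1 hf hne hq
  have h1 := (core2 hk2 hk3 hs.1 hr hf g2 g3 1).1
  rw [map_one, one_mul] at h1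
  have hesne : ev s r E * s ≠ 0 := by
    intro h0
    apply hne
    have := hf.of_s hs.1.1 hr.1 (p := 1) (by rw [map_one, one_mul]; exact h0)
    rwa [map_one, one_mul] at this
  have hrk := hs.2.2 _ h1 hesne
  have hle : LinearMap.range (ev s r E * s) ≤ LinearMap.range s := by
    rw [← s_ev hs.1.1]; exact range_mul_le _ _
  have heq := Submodule.eq_of_le_of_finrank_le hle hrk
  ext v
  have hv : s v ∈ LinearMap.range (ev s r E * s) := by rw [heq]; exact ⟨v, rfl⟩
  obtain ⟨w, hw⟩ := hv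
  rw [Module.End.mul_apply, ← hw, ← Module.End.mul_apply, ← mul_assoc, hf.ee]

theorem hq_all [FiniteDimensional k M] {G : Subgroup (LinearMap.GeneralLinearGroup k M)} (hk2 : ringChar k ≠ 2)
    (hk3 : Nat.card k ≠ 3) (m : ℕ) : ∀ {s r : M →ₗ[k] M} (hs : MRV G s) (hr : RV G r) {E W : k[X]} {n : ℕ},
    Fit s r E W n → ¬ IsNilpotent (zz s r) → rk (zz s r * s) = m → 
    (∀ x ∈ TT s r hs.1.1 hr.1, Ideal.Quotient.mk (II s r E) ((x.1 : Matrix (Fin 2) (Fin 2) k[X]) 1 0) = 0 ∨
      IsUnit (Ideal.Quotient.mk (II s r E) ((x.1 : Matrix (Fin 2) (Fin 2) k[X]) 1 0))) := by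
  induction m using Nat.strong_induction_on with
  | _ m ih =>
    intro s r hs hr E W n hf hn hm x hx
    refine hq_step hk2 hs hr hf (hf.ne_zero hn) ?_ hx
    intro s' hs' hn' hlt
    obtain ⟨E', W', n', hf'⟩ := exists_fit s s'
    have h1 := ih _ (by rw [← hm]; exact hlt) hs hs' hf' hn' rfl
    have h2 := finish hk2 hk3 hs hs' hf' (hf'.ne_zero hn') h1
    refine ⟨W', ?_⟩
    have h3 : ev s s' W' * zz s s' * s = ev s s' W' * zz s s' * (ev s s' E' * s) := by rw [h2]
    rw [h3, ← mul_assoc, hf'.inv, h2]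

/-- the summary of all facts about a pair `(s, r)` with `z` not nilpotent -/
theorem T2_full [FiniteDimensional k M] {G : Subgroup (LinearMap.GeneralLinearGroup k M)} (hk2 : ringChar k ≠ 2)
    (hk3 : Nat.card k ≠ 3) {s r : M →ₗ[k] M} (hs : MRV G s) (hr : RV G r) (hn : ¬ IsNilpotent (zz s r)) :
    ∃ (E W : k[X]) (n : ℕ), Fit s r E W n ∧ ev s r E * s = s ∧ (II s r E).IsMaximal ∧
      (∀ y : k[X] ⧸ II s r E, ∃ x ∈ TT s r hs.1.1 hr.1, redm (II s r E) x.1 = upR y) ∧
      (∀ y : k[X] ⧸ II s r E, ∃ x ∈ TT s r hs.1.1 hr.1, redm (II s r E) x.1 = loR y) ∧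
      ∀ f : k[X], RV G (ev s r f * ev s r E * s) ∧ RV G (ev s r f * ev s r E * r) := by
  obtain ⟨E, W, n, hf⟩ := exists_fit s r
  have hne := hf.ne_zero hn
  have hq := hq_all hk2 hk3 _ hs hr hf hn rfl
  obtain ⟨g1, g2, g3⟩ := core1 hk2 hk3 hs.1.1 hr.1 hf hne hq
  exact ⟨E, W, n, hf, finish hk2 hk3 hs hr hf hne hq, g1, g2, g3, core2 hk2 hk3 hs.1 hr hf g2 g3⟩

theorem T2' [FiniteDimensional k M] {G : Subgroup (LinearMap.GeneralLinearGroup k M)} (hk2 : ringChar k ≠ 2)
    (hk3 : Nat.card k ≠ 3) {s r : M →ₗ[k] M} (hs : MRV G s) (hr : RV G r) (hn : ¬ IsNilpotent (s * r)) :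
    ∃ r₁ r₀ t : M →ₗ[k] M, r = r₁ + r₀ ∧ r₁ * r₀ = 0 ∧ r₀ * r₁ = 0 ∧ s * r₀ = 0 ∧ r₀ * s = 0 ∧ MRV G r₁ ∧ RV G r₀ ∧
      MRV G t ∧ LinearMap.ker t = LinearMap.ker r₁ ∧ LinearMap.range t = LinearMap.range r₁ ∧
      s * t * s = s ∧ t * s * t = t := by
  have hss := hs.1.1
  have hrr := hr.1
  have hn' : ¬ IsNilpotent (zz s r) := fun h => hn (nilpotent_mul_of_nilpotent_z hss hrr h)
  obtain ⟨E, W, n, hf, hes, -, -, -, hRV⟩ := T2_full hk2 hk3 hs hr hn'
  set e := ev s r E with he
  have ee : e * e = e := hf.ee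
  have hse : s * e = e * s := s_ev hss E
  have hre : r * e = e * r := r_ev hrr E
  have zs : s * r * s = zz s r * s := by
    unfold zz; rw [add_mul, mul_assoc r s s, hss, mul_zero, add_zero]
  have zr : r * s * r = zz s r * r := by
    unfold zz; rw [add_mul, mul_assoc s r r, hrr, mul_zero, zero_add]
  have sW := s_ev (r := r) hss W
  have rW := r_ev (s := s) hrr W
  have We : ev s r W * e = e * ev s r W := ev_comm s r W E
  have inv := hf.inv
  rw [← he] at inv
  have h1 : RV G (e * r) := by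
    have := (hRV 1).2
    rwa [map_one, one_mul] at this
  have ht : RV G (ev s r W * e * r) := (hRV W).2
  have sts : s * (ev s r W * e * r) * s = s := by
    calc s * (ev s r W * e * r) * s = (s * ev s r W) * e * (r * s) := by noncomm_ring
      _ = ev s r W * (s * e) * (r * s) := by rw [sW]; noncomm_ring
      _ = ev s r W * e * (s * r * s) := by rw [hse]; noncomm_ring
      _ = (ev s r W * (e * zz s r)) * s := by rw [zs]; noncomm_ring
      _ = e * s := by
        have : e * zz s r = zz s r * e := by rw [he, ← ev_X, ev_comm]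
        rw [this, ← mul_assoc, inv]
      _ = s := hes
  have tst : (ev s r W * e * r) * s * (ev s r W * e * r) = ev s r W * e * r := by
    calc (ev s r W * e * r) * s * (ev s r W * e * r) = ev s r W * e * (r * ((s * ev s r W) * e * r)) := by noncomm_ring
      _ = ev s r W * e * ((r * ev s r W) * (s * e) * r) := by rw [sW]; noncomm_ring
      _ = ev s r W * e * (ev s r W * (r * e) * s * r) := by rw [rW, hse]; noncomm_ring
      _ = ev s r W * e * (ev s r W * e * (r * s * r)) := by rw [hre]; noncomm_ring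
      _ = ev s r W * e * ((ev s r W * (e * zz s r)) * r) := by rw [zr]; noncomm_ring
      _ = ev s r W * e * (e * r) := by
        have : e * zz s r = zz s r * e := by rw [he, ← ev_X, ev_comm]
        rw [this, ← mul_assoc (ev s r W) (zz s r), inv]
      _ = ev s r W * e * r := by rw [← mul_assoc, mul_assoc _ e e, ee]
  set t := ev s r W * e * r with htdef
  have htr : t = ev s r W * (e * r) := by rw [htdef, mul_assoc]
  have hrt : e * r = zz s r * t := by
    rw [htr, ← mul_assoc, ← mul_assoc]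
    have : zz s r * ev s r W * e = e := by
      rw [← ev_X, ev_comm s r X W, ev_X]; exact inv
    rw [this]
  have htr2 : t = (e * r) * ev s r W := by
    rw [htdef, mul_assoc e, rW, ← mul_assoc, We]
  have hrt2 : e * r = t * zz s r := by
    rw [htdef, mul_assoc _ r, r_zz hrr, ← mul_assoc]
    have : ev s r W * e * zz s r = e := by
      rw [mul_assoc, he, ← ev_X, ev_comm s r E X, ← mul_assoc, ev_X]; exact inv
    rw [this]
  have hker : LinearMap.ker t = LinearMap.ker (e * r) := by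
    apply le_antisymm
    · intro v hv
      rw [LinearMap.mem_ker] at hv ⊢
      rw [hrt, Module.End.mul_apply, hv, map_zero]
    · intro v hv
      rw [LinearMap.mem_ker] at hv ⊢
      rw [htr, Module.End.mul_apply, hv, map_zero]
  have hrange : LinearMap.range t = LinearMap.range (e * r) := by
    apply le_antisymm
    · rw [htr2]; exact range_mul_le _ _
    · rw [hrt2]; exact range_mul_le _ _
  have htne : t ≠ 0 := by
    intro h0
    apply hs.2.1
    rw [← sts, h0]; simp
  have htrk : rk t ≤ rk s := by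
    rw [← tst, mul_assoc]
    exact (rk_mul_le_right _ _).trans (rk_mul_le_left _ _)
  have htM : MRV G t := MRV_of_le hs ht htne htrk
  have herne : e * r ≠ 0 := by
    intro h0
    apply htne
    rw [htr, h0, mul_zero]
  have herM : MRV G (e * r) := MRV_of_le hs h1 herne (by rw [← hrange]; exact htrk)
  have r1r : (e * r) * r = 0 := by rw [mul_assoc, hrr, mul_zero]
  have rr1 : r * (e * r) = 0 := by rw [← mul_assoc, hre, mul_assoc, hrr, mul_zero]
  refine ⟨e * r, r - e * r, t, by abel, ?_, ?_, ?_, ?_, herM, RV_sub hr h1 rr1 r1r, htM, hker, hrange, sts, tst⟩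
  · rw [mul_sub, r1r, h1.1, sub_zero]
  · rw [sub_mul, rr1, h1.1, sub_zero]
  · rw [mul_sub, ← mul_assoc, hse, hes, sub_self]
  · rw [sub_mul, ← hre, mul_assoc, hes, sub_self]

/-- **T2** in terms of `H740.QIn`, `H740.IsMin`. -/
theorem T2 [FiniteDimensional k M] {G : Subgroup (LinearMap.GeneralLinearGroup k M)} (hk2 : ringChar k ≠ 2)
    (hk3 : Nat.card k ≠ 3) {s r : M →ₗ[k] M} (hs : H740.IsMin G s) (hr : H740.QIn G r) (hn : ¬ IsNilpotent (s * r)) :
    ∃ r₁ r₀ t : M →ₗ[k] M, r = r₁ + r₀ ∧ r₁ * r₀ = 0 ∧ r₀ * r₁ = 0 ∧ s * r₀ = 0 ∧ r₀ * s = 0 ∧ H740.IsMin G r₁ ∧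
      H740.QIn G r₀ ∧ H740.IsMin G t ∧ LinearMap.ker t = LinearMap.ker r₁ ∧ LinearMap.range t = LinearMap.range r₁ ∧
      s * t * s = s ∧ t * s * t = t :=
  T2' hk2 hk3 hs hr hn

end Cfsg.Agent.H731
end
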